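import Mathlib.GroupTheory.PGroup
import Mathlib.GroupTheory.Sylow
import Mathlib.GroupTheory.GroupAction.Quotient
import Mathlib.GroupTheory.Complement
import Mathlib.GroupTheory.GroupAction.SubMulAction
import Mathlib.Algebra.Group.Subgroup.Pointwise
import Cfsg.Prelude.Def_Solvable

/-!
# Frobenius complements: elementary theory (no characters)

Main results (all for a finite group `G`, `H` a Frobenius complement):
* `normalizer_eq`, `centralizer_le`, `mem_of_conj_mem`, `conj_eq_of_inf_ne_bot`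
* `card_frobeniusKernel`, `index_modEq_one`, `coprime_card_index`
* `subgroupOf_isFrobeniusComplement`, `exists_conj_mem_of_mem_conjUnion`
* `exists_le_conj_of_card_dvd`, `exists_conj_le_of_card_le`
* `isFrobeniusComplement_iff_centralizer`, `coe_eq_frobeniusKernel`
* the even case: `exists_kernel_of_involution`
-/

set_option autoImplicit false
set_option linter.unusedSectionVars false

namespace Cfsg.Agent.Lib.Frobenius

open scoped Pointwise

variable {G : Type*} [Group G]

theorem mem_conj_smul {H : Subgroup G} {g x : G} :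
    x ∈ MulAut.conj g • H ↔ g⁻¹ * x * g ∈ H := by
  rw [Subgroup.mem_pointwise_smul_iff_inv_smul_mem, MulAut.smul_def, MulAut.conj_inv_apply]

theorem map_conj_eq_smul (H : Subgroup G) (g : G) :
    H.map (MulAut.conj g).toMonoidHom = MulAut.conj g • H := rfl

theorem isFrobeniusComplement_iff {H : Subgroup G} :
    Cfsg.IsFrobeniusComplement H ↔
      H ≠ ⊥ ∧ H ≠ ⊤ ∧ ∀ g, g ∉ H → ∀ x ∈ H, g⁻¹ * x * g ∈ H → x = 1 := by
  unfold Cfsg.IsFrobeniusComplement
  refine and_congr_right fun _ => and_congr_right fun _ => forall_congr' fun g => ?_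
  refine imp_congr_right fun _ => ?_
  simp [Subgroup.eq_bot_iff_forall, mem_conj_smul]

section IFC

variable {H : Subgroup G} (hH : Cfsg.IsFrobeniusComplement H)
include hH

theorem eq_one_of_conj_mem {g x : G} (hg : g ∉ H) (hx : x ∈ H) (hx' : g⁻¹ * x * g ∈ H) :
    x = 1 :=
  (isFrobeniusComplement_iff.mp hH).2.2 g hg x hx hx'

theorem mem_of_conj_mem {g x : G} (hx : x ∈ H) (hx1 : x ≠ 1) (hx' : g⁻¹ * x * g ∈ H) :
    g ∈ H :=
  by_contra fun hg => hx1 (eq_one_of_conj_mem hH hg hx hx')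

theorem centralizer_le {x : G} (hx : x ∈ H) (hx1 : x ≠ 1) :
    Subgroup.centralizer ({x} : Set G) ≤ H := by
  intro g hg
  have hc : x * g = g * x := Subgroup.mem_centralizer_iff.mp hg x rfl
  refine mem_of_conj_mem hH hx hx1 ?_
  rwa [mul_assoc, hc, inv_mul_cancel_left]

theorem mem_of_commute {x g : G} (hx : x ∈ H) (hx1 : x ≠ 1) (hc : x * g = g * x) : g ∈ H :=
  mem_of_conj_mem hH hx hx1 (by rwa [mul_assoc, hc, inv_mul_cancel_left])

theorem normalizer_eq : Subgroup.normalizer (H : Set G) = H := by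
  refine le_antisymm (fun g hg => ?_) Subgroup.le_normalizer
  obtain ⟨x, hx, hx1⟩ := H.ne_bot_iff_exists_ne_one.mp hH.1 |> fun ⟨a, ha⟩ =>
    (⟨a, a.2, fun h => ha (Subtype.ext h)⟩ : ∃ x, x ∈ H ∧ x ≠ 1)
  refine mem_of_conj_mem hH hx hx1 ?_
  rw [Subgroup.mem_normalizer_iff] at hg
  rw [hg (g⁻¹ * x * g)]
  simpa [mul_assoc] using hx

theorem conj_isFrobeniusComplement (g : G) :
    Cfsg.IsFrobeniusComplement (MulAut.conj g • H) := by
  obtain ⟨h1, h2, h3⟩ := isFrobeniusComplement_iff.mp hH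
  refine isFrobeniusComplement_iff.mpr ⟨?_, ?_, ?_⟩
  · intro h
    apply h1
    have := congrArg (fun K => (MulAut.conj g)⁻¹ • K) h
    simpa using this
  · intro h
    apply h2
    rw [Subgroup.eq_top_iff'] at h ⊢
    intro x
    have := mem_conj_smul.mp (h (g * x * g⁻¹))
    simpa [mul_assoc] using this
  · intro a ha x hx hx'
    rw [mem_conj_smul] at ha hx hx'
    have := h3 (g⁻¹ * a * g) ha (g⁻¹ * x * g) hx (by simpa [mul_assoc] using hx')
    have h' := congrArg (fun t => g * t * g⁻¹) this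
    simpa [mul_assoc] using h'

/-- Two conjugates of `H` sharing a nontrivial element coincide. -/
theorem conj_eq_of_inf_ne_bot {a b : G} (h : MulAut.conj a • H ⊓ MulAut.conj b • H ≠ ⊥) :
    a⁻¹ * b ∈ H ∧ MulAut.conj a • H = MulAut.conj b • H := by
  obtain ⟨⟨x, hxa, hxb⟩, hx1⟩ := Subgroup.ne_bot_iff_exists_ne_one.mp h
  replace hxa := mem_conj_smul.mp hxa
  replace hxb := mem_conj_smul.mp hxb
  have hx1' : a⁻¹ * x * a ≠ 1 := by
    intro he
    apply hx1
    have h' := congrArg (fun t => a * t * a⁻¹) he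
    exact Subtype.ext (by simpa [mul_assoc] using h')
  have hab : a⁻¹ * b ∈ H :=
    mem_of_conj_mem hH hxa hx1' (by simpa [mul_assoc] using hxb)
  refine ⟨hab, Subgroup.ext fun y => ?_⟩
  rw [mem_conj_smul, mem_conj_smul]
  constructor <;> intro hy
  · simpa [mul_assoc] using H.mul_mem (H.mul_mem (H.inv_mem hab) hy) hab
  · simpa [mul_assoc] using H.mul_mem (H.mul_mem hab hy) (H.inv_mem hab)

end IFC

/-- The nonidentity elements lying in some conjugate of `H`. -/
def conjUnion (H : Subgroup G) : Set G :=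
  {x | x ≠ 1 ∧ ∃ g : G, g⁻¹ * x * g ∈ H}

theorem frobeniusKernel_eq_compl (H : Subgroup G) :
    Cfsg.frobeniusKernel H = (conjUnion H)ᶜ := by
  ext x
  simp only [Cfsg.frobeniusKernel, conjUnion, mem_conj_smul, Set.mem_ofPred_eq, Set.mem_compl_iff,
    not_and, not_exists]
  tauto

theorem mem_frobeniusKernel {H : Subgroup G} {x : G} :
    x ∈ Cfsg.frobeniusKernel H ↔ (x ≠ 1 → ∀ g : G, g⁻¹ * x * g ∉ H) := by
  rw [frobeniusKernel_eq_compl]
  simp [conjUnion]

theorem one_mem_frobeniusKernel (H : Subgroup G) : (1 : G) ∈ Cfsg.frobeniusKernel H := Or.inl rfl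

theorem conj_mem_conjUnion {H : Subgroup G} {x : G} (a : G) (hx : x ∈ conjUnion H) :
    a * x * a⁻¹ ∈ conjUnion H := by
  obtain ⟨hx1, g, hg⟩ := hx
  refine ⟨fun h => hx1 ?_, a * g, by simpa [mul_assoc] using hg⟩
  have h' := congrArg (fun t => a⁻¹ * t * a) h
  simpa [mul_assoc] using h'

theorem conj_mem_frobeniusKernel {H : Subgroup G} {x : G} (a : G)
    (hx : x ∈ Cfsg.frobeniusKernel H) : a * x * a⁻¹ ∈ Cfsg.frobeniusKernel H := by
  rw [frobeniusKernel_eq_compl] at hx ⊢
  intro h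
  apply hx
  have := conj_mem_conjUnion a⁻¹ h
  simpa [mul_assoc] using this

theorem inv_mem_frobeniusKernel {H : Subgroup G} {x : G}
    (hx : x ∈ Cfsg.frobeniusKernel H) : x⁻¹ ∈ Cfsg.frobeniusKernel H := by
  rw [mem_frobeniusKernel] at hx ⊢
  intro h1 g hg
  refine hx (fun h => h1 (by simp [h])) g ?_
  have := H.inv_mem hg
  simpa [mul_assoc] using this

/-- A normal subgroup meeting `H` trivially lies in the Frobenius kernel. -/
theorem coe_subset_frobeniusKernel {H N : Subgroup G} (hN : N.Normal) (hd : N ⊓ H = ⊥) :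
    (N : Set G) ⊆ Cfsg.frobeniusKernel H := by
  intro x hx
  rw [mem_frobeniusKernel]
  intro hx1 g hg
  apply hx1
  have hm : g⁻¹ * x * g ∈ N ⊓ H := ⟨by simpa using hN.conj_mem x hx g⁻¹, hg⟩
  rw [hd, Subgroup.mem_bot] at hm
  have h' := congrArg (fun t => g * t * g⁻¹) hm
  simpa [mul_assoc] using h'

section Finite

variable [Finite G]

theorem ncard_coe_diff_one (H : Subgroup G) :
    {x : G | x ∈ H ∧ x ≠ 1}.ncard = Nat.card H - 1 := by
  have : {x : G | x ∈ H ∧ x ≠ 1} = (H : Set G) \ {1} := by ext x; simp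
  rw [this, Set.ncard_sdiff_singleton_of_mem H.one_mem, ← Nat.card_coe_set_eq]
  rfl

variable {H : Subgroup G} (hH : Cfsg.IsFrobeniusComplement H)
include hH

theorem two_le_card : 2 ≤ Nat.card H := by
  have := Subgroup.one_lt_card_iff_ne_bot H |>.mpr hH.1
  omega

theorem two_le_index : 2 ≤ H.index := by
  have h1 : H.index ≠ 1 := fun h => hH.2.1 (Subgroup.index_eq_one.mp h)
  have h0 : H.index ≠ 0 := H.index_ne_zero_of_finite
  omega

/-- Master counting lemma: a conjugation-invariant set meets each conjugate equally. -/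
theorem ncard_inter_conjUnion {S : Set G} (hS : ∀ a x, x ∈ S → a * x * a⁻¹ ∈ S) :
    (S ∩ conjUnion H).ncard = H.index * {x : G | x ∈ S ∧ x ∈ H ∧ x ≠ 1}.ncard := by
  let T : Set G := {x : G | x ∈ S ∧ x ∈ H ∧ x ≠ 1}
  let f : (G ⧸ H) × ↥T → ↥(S ∩ conjUnion H) := fun p =>
    ⟨p.1.out * (p.2 : G) * p.1.out⁻¹, hS _ _ p.2.2.1, by
      refine ⟨fun h => p.2.2.2.2 ?_, p.1.out, by simpa [mul_assoc] using p.2.2.2.1⟩
      have h' := congrArg (fun t => p.1.out⁻¹ * t * p.1.out) h
      simpa [mul_assoc] using h'⟩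
  have hf : Function.Bijective f := by
    constructor
    · rintro ⟨q, x, hxS, hxH, hx1⟩ ⟨r, y, hyS, hyH, hy1⟩ h
      have h' : q.out * x * q.out⁻¹ = r.out * y * r.out⁻¹ := congrArg Subtype.val h
      have hc : (q.out⁻¹ * r.out)⁻¹ * x * (q.out⁻¹ * r.out) = y := by
        have h'' := congrArg (fun t => r.out⁻¹ * t * r.out) h'
        simpa [mul_assoc] using h''
      have hm : q.out⁻¹ * r.out ∈ H := mem_of_conj_mem hH hxH hx1 (by rw [hc]; exact hyH)
      have hqr : q = r := by
        rw [← QuotientGroup.out_eq' q, ← QuotientGroup.out_eq' r]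
        exact QuotientGroup.eq.mpr hm
      subst hqr
      have : x = y := by simpa using hc
      subst this
      rfl
    · rintro ⟨x, hxS, hx1, g, hg⟩
      obtain ⟨h0, hh0⟩ := QuotientGroup.mk_out_eq_mul H g
      let y : G := (g * h0)⁻¹ * x * (g * h0)
      have hyH : y ∈ H := by
        have := H.mul_mem (H.mul_mem (H.inv_mem h0.2) hg) h0.2
        simpa [y, mul_assoc] using this
      have hy1 : y ≠ 1 := by
        intro h
        apply hx1
        have h' := congrArg (fun t => (g * h0) * t * (g * h0)⁻¹) h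
        simpa [y, mul_assoc] using h'
      have hyS : y ∈ S := by
        have := hS (g * h0)⁻¹ x hxS
        simpa [y, mul_assoc] using this
      refine ⟨((g : G ⧸ H), ⟨y, hyS, hyH, hy1⟩), Subtype.ext ?_⟩
      simp only [f, hh0, y]
      group
  have := Nat.card_eq_of_bijective f hf
  rw [Nat.card_prod, Nat.card_coe_set_eq, Nat.card_coe_set_eq] at this
  rw [← this]
  rfl

theorem ncard_conjUnion : (conjUnion H).ncard = H.index * (Nat.card H - 1) := by
  have h := ncard_inter_conjUnion hH (S := Set.univ) (fun _ _ _ => trivial)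
  simpa [ncard_coe_diff_one] using h

theorem ncard_conjUnion_add_index : (conjUnion H).ncard + H.index = Nat.card G := by
  rw [ncard_conjUnion hH, ← Nat.mul_succ, ← H.index_mul_card]
  congr 1
  have := two_le_card hH
  omega

theorem card_frobeniusKernel : Nat.card (Cfsg.frobeniusKernel H) = H.index := by
  rw [Nat.card_coe_set_eq, frobeniusKernel_eq_compl, Set.ncard_compl]
  have := ncard_conjUnion_add_index hH
  omega

theorem card_dvd_index_sub_one : Nat.card H ∣ H.index - 1 := by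
  let X : SubMulAction ↥H (G ⧸ H) :=
    { carrier := {q | q ≠ ((1 : G) : G ⧸ H)}
      smul_mem' := fun h q hq he => hq (by
        have h2 := congrArg (fun t => h⁻¹ • t) he
        simp only [inv_smul_smul] at h2
        rw [h2]
        change (((h⁻¹ : ↥H) : G) • ((1 : G) : G ⧸ H)) = _
        rw [MulAction.Quotient.smul_coe, smul_eq_mul, mul_one]
        exact QuotientGroup.eq.mpr (by simp)) }
  have hstab : ∀ b : ↥X, MulAction.stabilizer ↥H b = ⊥ := by
    rintro ⟨q, hq⟩
    rw [Subgroup.eq_bot_iff_forall]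
    intro h hh
    obtain ⟨g, rfl⟩ := QuotientGroup.mk_surjective q
    have he : (h : G) • (g : G ⧸ H) = g := congrArg Subtype.val hh
    rw [MulAction.Quotient.smul_coe, smul_eq_mul, QuotientGroup.eq] at he
    have hgH : g ∉ H := fun hg => hq (QuotientGroup.eq.mpr (by simpa using hg))
    have : g⁻¹ * (h : G) * g ∈ H := by
      have := H.inv_mem he
      simpa [mul_assoc] using this
    exact Subtype.ext (eq_one_of_conj_mem hH hgH h.2 this)
  have hcard := Nat.card_congr (MulAction.selfEquivOrbitsQuotientProd hstab)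
  rw [Nat.card_prod] at hcard
  have hX : Nat.card ↥X = H.index - 1 := by
    change Nat.card ↥({q : G ⧸ H | q ≠ ((1 : G) : G ⧸ H)}) = _
    rw [Nat.card_coe_set_eq, show {q : G ⧸ H | q ≠ ((1 : G) : G ⧸ H)}
      = {((1 : G) : G ⧸ H)}ᶜ from rfl, Set.ncard_compl, Set.ncard_singleton]
    rfl
  exact ⟨_, by rw [← hX, hcard, mul_comm]⟩

theorem index_modEq_one : H.index % Nat.card H = 1 % Nat.card H :=
  Nat.ModEq.symm ((Nat.modEq_iff_dvd' (by have := two_le_index hH; omega)).mpr
    (card_dvd_index_sub_one hH))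

theorem coprime_card_index : (Nat.card H).Coprime H.index := by
  obtain ⟨k, hk⟩ := card_dvd_index_sub_one hH
  have h2 := two_le_index hH
  have : H.index = 1 + Nat.card H * k := by omega
  rw [this, Nat.coprime_add_mul_left_right]
  exact Nat.coprime_one_right _

/-- A normal complement to `H` is the Frobenius kernel. -/
theorem coe_eq_frobeniusKernel {N : Subgroup G} (hN : N.Normal) (hc : Subgroup.IsComplement' N H) :
    (N : Set G) = Cfsg.frobeniusKernel H := by
  refine Set.eq_of_subset_of_ncard_le (coe_subset_frobeniusKernel hN hc.disjoint.eq_bot) ?_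
  have h1 := hc.card_mul_card
  have h2 := H.index_mul_card
  have h3 : Nat.card N = H.index :=
    Nat.eq_of_mul_eq_mul_right (Nat.card_pos (α := H)) (h1.trans h2.symm)
  rw [← Nat.card_coe_set_eq, ← Nat.card_coe_set_eq, card_frobeniusKernel hH, ← h3]
  rfl

/-- A subgroup whose underlying set is the kernel is a normal complement of `H`. -/
theorem normal_and_isComplement'_of_coe_eq {N : Subgroup G}
    (hN : (N : Set G) = Cfsg.frobeniusKernel H) : N.Normal ∧ Subgroup.IsComplement' N H := by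
  have hmem : ∀ x, x ∈ N ↔ x ∈ Cfsg.frobeniusKernel H := fun x => Set.ext_iff.mp hN x
  refine ⟨⟨fun x hx g => (hmem _).mpr (conj_mem_frobeniusKernel g ((hmem _).mp hx))⟩,
    Subgroup.isComplement'_of_card_mul_and_disjoint ?_ ?_⟩
  · rw [← H.index_mul_card, ← card_frobeniusKernel hH, ← hN]
    rfl
  · rw [disjoint_iff, Subgroup.eq_bot_iff_forall]
    rintro x ⟨hxN, hxH⟩
    by_contra hx1
    exact mem_frobeniusKernel.mp ((hmem x).mp hxN) hx1 1 (by simpa using hxH)

/-- `H ⊓ L` is a Frobenius complement of `L`, if nontrivial and proper in `L`. -/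
theorem subgroupOf_isFrobeniusComplement {L : Subgroup G} (h1 : H ⊓ L ≠ ⊥) (h2 : ¬ L ≤ H) :
    Cfsg.IsFrobeniusComplement (H.subgroupOf L) := by
  refine isFrobeniusComplement_iff.mpr ⟨?_, ?_, ?_⟩
  · obtain ⟨⟨x, hxH, hxL⟩, hx1⟩ := Subgroup.ne_bot_iff_exists_ne_one.mp h1
    refine fun h => hx1 ?_
    have : (⟨x, hxL⟩ : L) ∈ H.subgroupOf L := hxH
    rw [h, Subgroup.mem_bot] at this
    exact Subtype.ext (congrArg (fun z : L => (z : G)) this)
  · exact fun h => h2 (Subgroup.subgroupOf_eq_top.mp h)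
  · intro g hg x hx hx'
    exact Subtype.ext (eq_one_of_conj_mem hH (g := (g : G)) hg hx hx')

/-- An element commuting with a nonidentity element of a conjugate of `H` lies in that conjugate. -/
theorem conj_mem_of_commute {g x y : G} (hy : g⁻¹ * y * g ∈ H) (hy1 : y ≠ 1)
    (hc : y * x = x * y) : g⁻¹ * x * g ∈ H := by
  refine mem_of_commute hH hy (fun h => hy1 ?_) ?_
  · have h' := congrArg (fun t => g * t * g⁻¹) h
    simpa [mul_assoc] using h'
  · calc g⁻¹ * y * g * (g⁻¹ * x * g) = g⁻¹ * (y * x) * g := by group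
      _ = g⁻¹ * (x * y) * g := by rw [hc]
      _ = _ := by group

/-- A nonidentity element of order prime to the index lies in a conjugate of `H`. -/
theorem mem_conjUnion_of_coprime {x : G} (hx1 : x ≠ 1) (hcop : (orderOf x).Coprime H.index) :
    x ∈ conjUnion H := by
  obtain ⟨p, hp, hpd⟩ := Nat.exists_prime_and_dvd (mt orderOf_eq_one_iff.mp hx1)
  have := Fact.mk hp
  let y := x ^ (orderOf x / p)
  have hy : orderOf y = p := orderOf_pow_orderOf_div (orderOf_pos x).ne' hpd
  have hy1 : y ≠ 1 := fun h => hp.ne_one (by rw [← hy, h, orderOf_one])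
  have hP : IsPGroup p (Subgroup.zpowers y) :=
    IsPGroup.of_card (n := 1) (by rw [Nat.card_zpowers, hy, pow_one])
  have hnd : ¬ p ∣ Nat.card (G ⧸ H) := fun h =>
    hp.ne_one (Nat.dvd_one.mp (hcop ▸ Nat.dvd_gcd hpd h))
  obtain ⟨q, hq⟩ := hP.nonempty_fixed_point_of_prime_not_dvd_card (G ⧸ H) hnd
  obtain ⟨g, rfl⟩ := QuotientGroup.mk_surjective q
  have he : y • (g : G ⧸ H) = g := hq ⟨y, Subgroup.mem_zpowers y⟩
  rw [MulAction.Quotient.smul_coe, smul_eq_mul, QuotientGroup.eq] at he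
  have hyH : g⁻¹ * y * g ∈ H := by
    have := H.inv_mem he
    simpa [mul_assoc] using this
  exact ⟨hx1, g, conj_mem_of_commute hH hyH hy1 ((Commute.refl x).pow_left _)⟩

/-- Two Frobenius complements share a nonidentity element up to conjugation. -/
theorem conjUnion_inter_nonempty {K : Subgroup G} (hK : Cfsg.IsFrobeniusComplement K) :
    (conjUnion H ∩ conjUnion K).Nonempty := by
  by_contra h
  rw [Set.not_nonempty_iff_eq_empty, ← Set.disjoint_iff_inter_eq_empty] at h
  have hu := Set.ncard_union_eq h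
  have hsub : conjUnion H ∪ conjUnion K ⊆ ({1} : Set G)ᶜ := by
    rintro x (hx | hx) <;> exact hx.1
  have hle := Set.ncard_le_ncard hsub
  rw [Set.ncard_compl, Set.ncard_singleton, hu] at hle
  have a := ncard_conjUnion hH
  have b := ncard_conjUnion hK
  have a1 : H.index * 1 ≤ H.index * (Nat.card H - 1) :=
    Nat.mul_le_mul le_rfl (by have := two_le_card hH; omega)
  have b1 : K.index * 1 ≤ K.index * (Nat.card K - 1) :=
    Nat.mul_le_mul le_rfl (by have := two_le_card hK; omega)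
  have a2 := ncard_conjUnion_add_index hH
  have b2 := ncard_conjUnion_add_index hK
  have := Nat.card_pos (α := G)
  omega

/-- If `L` meets `H` nontrivially, every nonidentity element of `L` lying in a conjugate of `H`
lies in an `L`-conjugate of `H`. -/
theorem exists_conj_mem_of_mem_conjUnion {L : Subgroup G} (hL : H ⊓ L ≠ ⊥) {x : G}
    (hxL : x ∈ L) (hx : x ∈ conjUnion H) : ∃ l ∈ L, l⁻¹ * x * l ∈ H := by
  by_cases hle : L ≤ H
  · exact ⟨1, L.one_mem, by simpa using hle hxL⟩
  obtain ⟨hx1, g, hg⟩ := hx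
  by_cases hleK : L ≤ MulAut.conj g • H
  · obtain ⟨⟨y, hyH, hyL⟩, hy1⟩ := Subgroup.ne_bot_iff_exists_ne_one.mp hL
    have hgH : g ∈ H := mem_of_conj_mem hH hyH (fun h => hy1 (Subtype.ext h))
      (mem_conj_smul.mp (hleK hyL))
    refine ⟨1, L.one_mem, ?_⟩
    simpa [mul_assoc] using H.mul_mem (H.mul_mem hgH hg) (H.inv_mem hgH)
  have hK : MulAut.conj g • H ⊓ L ≠ ⊥ := by
    intro h
    apply hx1
    have : x ∈ MulAut.conj g • H ⊓ L := ⟨mem_conj_smul.mpr hg, hxL⟩
    rwa [h, Subgroup.mem_bot] at this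
  obtain ⟨z, ⟨hz1, a, ha⟩, ⟨-, b, hb⟩⟩ :=
    conjUnion_inter_nonempty (subgroupOf_isFrobeniusComplement hH hL hle)
      (subgroupOf_isFrobeniusComplement (conj_isFrobeniusComplement hH g) hK hleK)
  have ha' : (a : G)⁻¹ * (z : G) * a ∈ H := ha
  have hb' : g⁻¹ * ((b : G)⁻¹ * (z : G) * b) * g ∈ H := mem_conj_smul.mp hb
  have hw1 : (a : G)⁻¹ * (z : G) * a ≠ 1 := by
    intro h
    apply hz1
    have h' := congrArg (fun t => (a : G) * t * (a : G)⁻¹) h
    exact Subtype.ext (by simpa [mul_assoc] using h')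
  have hm : (a : G)⁻¹ * b * g ∈ H :=
    mem_of_conj_mem hH ha' hw1 (by simpa [mul_assoc] using hb')
  refine ⟨((b⁻¹ * a : L) : G), SetLike.coe_mem _, ?_⟩
  have := H.mul_mem (H.mul_mem hm hg) (H.inv_mem hm)
  simpa [mul_assoc] using this

theorem exists_le_conj_of_card_dvd {L : Subgroup G} (hL : Nat.card L ∣ Nat.card H) :
    ∃ x : G, L ≤ MulAut.conj x • H := by
  by_cases hbot : L = ⊥
  · exact ⟨1, by simp [hbot]⟩
  have hU : ∀ x ∈ L, x ≠ 1 → x ∈ conjUnion H := fun x hxL hx1 =>
    mem_conjUnion_of_coprime hH hx1 ((coprime_card_index hH).coprime_dvd_left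
      ((L.orderOf_dvd_natCard hxL).trans hL))
  obtain ⟨⟨x, hxL⟩, hx1⟩ := Subgroup.ne_bot_iff_exists_ne_one.mp hbot
  obtain ⟨-, g, hg⟩ := hU x hxL (fun h => hx1 (Subtype.ext h))
  refine ⟨g, by_contra fun hle => ?_⟩
  have hK := conj_isFrobeniusComplement hH g
  have hinf : MulAut.conj g • H ⊓ L ≠ ⊥ := by
    intro h
    have : x ∈ MulAut.conj g • H ⊓ L := ⟨mem_conj_smul.mpr hg, hxL⟩
    rw [h, Subgroup.mem_bot] at this
    exact hx1 (Subtype.ext this)
  have hA := subgroupOf_isFrobeniusComplement hK hinf hle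
  have hall : conjUnion ((MulAut.conj g • H).subgroupOf L) = {1}ᶜ := by
    refine Set.Subset.antisymm (fun y hy => hy.1) (fun y hy => ⟨hy, ?_⟩)
    have hy1 : (y : G) ≠ 1 := fun h => hy (Subtype.ext h)
    obtain ⟨-, a, ha⟩ := hU y y.2 hy1
    obtain ⟨l, hlL, hl⟩ := exists_conj_mem_of_mem_conjUnion hK hinf y.2
      ⟨hy1, a * g⁻¹, mem_conj_smul.mpr (by simpa [mul_assoc] using ha)⟩
    exact ⟨⟨l, hlL⟩, hl⟩
  have h1 := ncard_conjUnion_add_index hA
  rw [hall, Set.ncard_compl, Set.ncard_singleton] at h1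
  have h2 := two_le_index hA
  have := Nat.card_pos (α := L)
  omega

/-- A Frobenius complement of order at most that of `H` meeting `H` nontrivially lies in `H`. -/
theorem le_of_inf_ne_bot {H₀ : Subgroup G} (hH₀ : Cfsg.IsFrobeniusComplement H₀)
    (hle : Nat.card H₀ ≤ Nat.card H) (hi : H ⊓ H₀ ≠ ⊥) : H₀ ≤ H := by
  by_contra hnle
  have hnle' : ¬ H ≤ H₀ := fun h => hnle (Subgroup.eq_of_le_of_card_ge h hle).ge
  have hi' : H₀ ⊓ H ≠ ⊥ := by rwa [inf_comm]
  have hA := subgroupOf_isFrobeniusComplement hH hi hnle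
  have hA' := subgroupOf_isFrobeniusComplement hH₀ hi' hnle'
  have hTH : {x : G | x ∈ conjUnion H₀ ∧ x ∈ H ∧ x ≠ 1} =
      ((↑) : H → G) '' conjUnion (H₀.subgroupOf H) := by
    ext x
    constructor
    · rintro ⟨hxU, hxH, hx1⟩
      obtain ⟨l, hlH, hl⟩ := exists_conj_mem_of_mem_conjUnion hH₀ hi' hxH hxU
      exact ⟨⟨x, hxH⟩, ⟨fun h => hx1 (congrArg Subtype.val h), ⟨l, hlH⟩, hl⟩, rfl⟩
    · rintro ⟨y, ⟨hy1, a, ha⟩, rfl⟩
      have hy1' : (y : G) ≠ 1 := fun h => hy1 (Subtype.ext h)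
      exact ⟨⟨hy1', a, ha⟩, y.2, hy1'⟩
  have hT := ncard_inter_conjUnion hH (S := conjUnion H₀) (fun a _ => conj_mem_conjUnion a)
  rw [hTH, Set.ncard_image_of_injective _ Subtype.val_injective, Set.inter_comm] at hT
  have huni := Set.ncard_union_add_ncard_inter (conjUnion H) (conjUnion H₀)
  have hsub : conjUnion H ∪ conjUnion H₀ ⊆ ({1} : Set G)ᶜ := by
    rintro x (hx | hx) <;> exact hx.1
  have hlec := Set.ncard_le_ncard hsub
  rw [Set.ncard_compl, Set.ncard_singleton] at hlec
  have a2 := ncard_conjUnion_add_index hH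
  have b2 := ncard_conjUnion_add_index hH₀
  have hGpos := Nat.card_pos (α := G)
  -- the indices `c = [H : A]` and `b = [H₀ : A]`
  have hc := ncard_conjUnion_add_index hA'
  have hc' := congrArg (H.index * ·) hc
  simp only [mul_add] at hc'
  rw [H.index_mul_card, ← hT] at hc'
  have hb := two_le_index hA
  have e1 : H.index * (H₀.subgroupOf H).index = H₀.index * (H.subgroupOf H₀).index := by
    have x1 : (H₀.subgroupOf H).index * H.index = (H₀ ⊓ H).index := by
      rw [← Subgroup.relIndex_mul_index (H := H₀ ⊓ H) (K := H) inf_le_right,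
        Subgroup.inf_relIndex_right]
      rfl
    have x2 : (H.subgroupOf H₀).index * H₀.index = (H₀ ⊓ H).index := by
      rw [← Subgroup.relIndex_mul_index (H := H₀ ⊓ H) (K := H₀) inf_le_left,
        Subgroup.inf_relIndex_left]
      rfl
    rw [mul_comm, x1, ← x2, mul_comm]
  have e2 : H₀.index * 2 ≤ H₀.index * (H.subgroupOf H₀).index := Nat.mul_le_mul le_rfl hb
  have e3 : H.index ≤ H₀.index := by
    have h1 := H.index_mul_card
    have h2 := H₀.index_mul_card
    by_contra hlt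
    push Not at hlt
    have h3 : H₀.index * Nat.card H₀ < H.index * Nat.card H :=
      calc H₀.index * Nat.card H₀ < H.index * Nat.card H₀ :=
            Nat.mul_lt_mul_of_pos_right hlt Nat.card_pos
        _ ≤ H.index * Nat.card H := Nat.mul_le_mul le_rfl hle
    omega
  omega

theorem exists_conj_le_of_card_le {H₀ : Subgroup G} (hH₀ : Cfsg.IsFrobeniusComplement H₀)
    (hle : Nat.card H₀ ≤ Nat.card H) : ∃ g : G, MulAut.conj g • H₀ ≤ H := by
  obtain ⟨x, ⟨hx1, a, ha⟩, ⟨-, b, hb⟩⟩ := conjUnion_inter_nonempty hH hH₀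
  refine ⟨a⁻¹ * b, le_of_inf_ne_bot hH (conj_isFrobeniusComplement hH₀ _) ?_ ?_⟩
  · rwa [← Nat.card_congr (Subgroup.equivSMul (MulAut.conj (a⁻¹ * b)) H₀).toEquiv]
  · intro h
    have hm : a⁻¹ * x * a ∈ H ⊓ MulAut.conj (a⁻¹ * b) • H₀ :=
      ⟨ha, mem_conj_smul.mpr (by simpa [mul_assoc] using hb)⟩
    rw [h, Subgroup.mem_bot] at hm
    apply hx1
    have h' := congrArg (fun t => a * t * a⁻¹) hm
    simpa [mul_assoc] using h'

/-- The even case of Frobenius' theorem, by involutions. -/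
theorem exists_kernel_of_involution {t : G} (ht : t ∈ H) (ht1 : t ≠ 1) (ht2 : t * t = 1) :
    ∃ N : Subgroup G, (N : Set G) = Cfsg.frobeniusKernel H ∧ N.Normal ∧
      Subgroup.IsComplement' N H ∧ (∀ x ∈ N, t * x * t⁻¹ = x⁻¹) ∧ IsMulCommutative N := by
  classical
  -- a section of `G → G ⧸ H` taking the trivial coset to `1`
  let r : G ⧸ H → G := Function.update Quotient.out ((1 : G) : G ⧸ H) 1
  have hr : ∀ q, ((r q : G) : G ⧸ H) = q := by
    intro q
    by_cases hq : q = ((1 : G) : G ⧸ H)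
    · subst hq; simp [r]
    · simp [r, Function.update_of_ne hq]
  let s : G ⧸ H → G := fun q => r q * t * (r q)⁻¹
  have hs0 : s ((1 : G) : G ⧸ H) = t := by simp [s, r]
  have hs2 : ∀ q, s q * s q = 1 := fun q => by simp [s, mul_assoc, ← mul_assoc t t, ht2]
  have hinv : ∀ q, (s q)⁻¹ = s q := fun q => inv_eq_of_mul_eq_one_right (hs2 q)
  have hsmem : ∀ q, (r q)⁻¹ * s q * r q ∈ H := fun q => by simpa [s, mul_assoc] using ht
  have hs1 : ∀ q, s q ≠ 1 := fun q h => ht1 (by
    have h' := congrArg (fun u => (r q)⁻¹ * u * r q) h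
    simpa [s, mul_assoc] using h')
  have hsinj : Function.Injective s := by
    intro q u h
    rw [← hr q, ← hr u, QuotientGroup.eq]
    refine mem_of_conj_mem hH ht ht1 ?_
    have h' := congrArg (fun w => (r u)⁻¹ * w * r u) h
    have e : ((r q)⁻¹ * r u)⁻¹ * t * ((r q)⁻¹ * r u) = t := by
      simpa [s, mul_assoc] using h'
    rw [e]
    exact ht
  have hprod : ∀ q u, s q * s u ∈ Cfsg.frobeniusKernel H := by
    intro q u
    rw [mem_frobeniusKernel]
    intro hy1 g hg
    have hqu : q ≠ u := fun h => hy1 (by rw [h, hs2])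
    -- `s q` inverts the product, hence normalises the conjugate containing it
    have hq : g⁻¹ * s q * g ∈ H := by
      refine mem_of_conj_mem hH hg (fun h => hy1 ?_) ?_
      · have h' := congrArg (fun w => g * w * g⁻¹) h
        simpa [mul_assoc] using h'
      · have e : (g⁻¹ * s q * g)⁻¹ * (g⁻¹ * (s q * s u) * g) * (g⁻¹ * s q * g) =
            (g⁻¹ * (s q * s u) * g)⁻¹ := by
          simp only [mul_inv_rev, inv_inv, hinv, mul_assoc, mul_inv_cancel_left]
          rw [← mul_assoc (s q) (s q), hs2, one_mul]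
        rw [e]
        exact H.inv_mem hg
    have hu : g⁻¹ * s u * g ∈ H := by
      simpa [mul_assoc, ← mul_assoc (s q) (s q), hs2] using H.mul_mem hq hg
    apply hqu
    have h1 : MulAut.conj (r q) • H ⊓ MulAut.conj g • H ≠ ⊥ := fun h => hs1 q (by
      have hm : s q ∈ MulAut.conj (r q) • H ⊓ MulAut.conj g • H :=
        ⟨mem_conj_smul.mpr (hsmem q), mem_conj_smul.mpr hq⟩
      rwa [h, Subgroup.mem_bot] at hm)
    have h2 : MulAut.conj (r u) • H ⊓ MulAut.conj g • H ≠ ⊥ := fun h => hs1 u (by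
      have hm : s u ∈ MulAut.conj (r u) • H ⊓ MulAut.conj g • H :=
        ⟨mem_conj_smul.mpr (hsmem u), mem_conj_smul.mpr hu⟩
      rwa [h, Subgroup.mem_bot] at hm)
    rw [← hr q, ← hr u, QuotientGroup.eq]
    simpa [mul_assoc] using
      H.mul_mem (conj_eq_of_inf_ne_bot hH h1).1 (H.inv_mem (conj_eq_of_inf_ne_bot hH h2).1)
  have hrange : ∀ q, Set.range (fun u => s q * s u) = Cfsg.frobeniusKernel H := by
    intro q
    refine Set.eq_of_subset_of_ncard_le (Set.range_subset_iff.mpr (hprod q)) ?_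
    rw [Set.ncard_range_of_injective (fun a b h => hsinj (mul_left_cancel h)),
      ← Nat.card_coe_set_eq, card_frobeniusKernel hH]
    rfl
  have hmul : ∀ x y, x ∈ Cfsg.frobeniusKernel H → y ∈ Cfsg.frobeniusKernel H →
      x * y ∈ Cfsg.frobeniusKernel H := by
    intro x y hx hy
    rw [← hrange ((1 : G) : G ⧸ H)] at hx
    obtain ⟨u, rfl⟩ := hx
    rw [← hrange u] at hy
    obtain ⟨w, rfl⟩ := hy
    have : s ↑(1 : G) * s u * (s u * s w) = s ↑(1 : G) * s w := by
      rw [mul_assoc, ← mul_assoc (s u) (s u), hs2, one_mul]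
    rw [this]
    exact hprod _ _
  let N : Subgroup G :=
    { carrier := Cfsg.frobeniusKernel H
      mul_mem' := fun hx hy => hmul _ _ hx hy
      one_mem' := one_mem_frobeniusKernel H
      inv_mem' := fun hx => inv_mem_frobeniusKernel hx }
  obtain ⟨hnorm, hcompl⟩ := normal_and_isComplement'_of_coe_eq hH (N := N) rfl
  have hti : t⁻¹ = t := inv_eq_of_mul_eq_one_right ht2
  have htx : ∀ x ∈ N, t * x * t⁻¹ = x⁻¹ := by
    intro x hx
    have hx' : x ∈ Cfsg.frobeniusKernel H := hx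
    rw [← hrange ((1 : G) : G ⧸ H), hs0] at hx'
    obtain ⟨u, rfl⟩ := hx'
    simp only [mul_inv_rev, hinv, hti]
    rw [← mul_assoc t t, ht2, one_mul]
  refine ⟨N, rfl, hnorm, hcompl, htx, ⟨⟨fun a b => Subtype.ext ?_⟩⟩⟩
  have h1 := htx _ (N.mul_mem a.2 b.2)
  have h2 : t * (a : G) * t⁻¹ * (t * (b : G) * t⁻¹) = (a : G)⁻¹ * (b : G)⁻¹ := by
    rw [htx _ a.2, htx _ b.2]
  have h3 : ((a : G) * b)⁻¹ = (a : G)⁻¹ * (b : G)⁻¹ := by
    rw [← h1, ← h2]; group
  have h4 := congrArg (·⁻¹) h3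
  simpa using h4

end Finite

/-- A semidirect product is a Frobenius group iff the complement acts without fixed points. -/
theorem isFrobeniusComplement_iff_centralizer {G : Type*} [Group G] {K H : Subgroup G} [K.Normal]
    (hc : Subgroup.IsComplement' K H) (hK : K ≠ ⊥) (hH : H ≠ ⊥) :
    Cfsg.IsFrobeniusComplement H ↔ ∀ h ∈ H, h ≠ 1 → K ⊓ Subgroup.centralizer {h} = ⊥ := by
  constructor
  · intro hF h hh hh1
    rw [Subgroup.eq_bot_iff_forall]
    rintro x ⟨hxK, hxC⟩
    exact Subgroup.disjoint_def.mp hc.disjoint hxK (centralizer_le hF hh hh1 hxC)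
  · intro hfix
    refine isFrobeniusComplement_iff.mpr ⟨hH, fun h => hK ?_, fun g hg x hx hx' => ?_⟩
    · simpa [h, disjoint_iff] using hc.disjoint
    obtain ⟨⟨⟨k, hk⟩, ⟨h, hh⟩⟩, hgk⟩ := hc.2 g
    simp only at hgk
    subst hgk
    by_contra hx1
    have hy : k⁻¹ * x * k ∈ H := by
      simpa [mul_assoc] using H.mul_mem (H.mul_mem hh hx') (H.inv_mem hh)
    have hm : x⁻¹ * (k⁻¹ * x * k) = 1 := Subgroup.disjoint_def.mp hc.disjoint
      (by simpa [mul_assoc] using
        K.mul_mem (Subgroup.Normal.conj_mem ‹K.Normal› k⁻¹ (K.inv_mem hk) x⁻¹) hk)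
      (H.mul_mem (H.inv_mem hx) hy)
    have hkc : k ∈ K ⊓ Subgroup.centralizer ({x} : Set G) := by
      refine ⟨hk, Subgroup.mem_centralizer_iff.mpr ?_⟩
      rintro y rfl
      have h' := congrArg (fun w => k * y * w) hm
      simpa [mul_assoc] using h'
    rw [hfix x hx hx1, Subgroup.mem_bot] at hkc
    exact hg (by simpa [hkc] using hh)

end Cfsg.Agent.Lib.Frobenius
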