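import Mathlib.GroupTheory.FixedPointFree
import Mathlib.GroupTheory.SchurZassenhaus
import Mathlib.GroupTheory.SpecificGroups.Cyclic
import Mathlib.GroupTheory.Subgroup.Centralizer
import Mathlib.GroupTheory.PGroup
import Mathlib.Algebra.BigOperators.Group.Finset.Basic
import Cfsg.Agent.Lib.Frobenius.Basic

/-!
# Fixed-point-free automorphisms and groups of automorphisms

* `exists_sylow_map_eq`, `mem_of_commutatorMap_mem` : a fixed-point-free automorphism.
* `IsFPF ρ` for `ρ : L →* MulAut V`, `V` abelian: coprimality, `pow_eq_one_of_partition`,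
  `not_isFrobeniusComplement`, `isCyclic_of_commutative`, `isCyclic_of_card_eq_mul`.
* For a Frobenius group `K ⋊ H`: `exists_invariant_pGroup`, `exists_invariant_abelian`, and the
  resulting structure of `H` (`exists_isFPF`, `isCyclic_of_commutative_complement`).
-/

set_option autoImplicit false
set_option linter.unusedSectionVars false

namespace Cfsg.Agent.Lib.Frobenius

open scoped Pointwise IsMulCommutative

section Auto

variable {G : Type*} [Group G] [Finite G] (φ : G ≃* G)

theorem mem_of_commutatorMap_mem (hφ : MonoidHom.FixedPointFree (φ : G →* G)) {N : Subgroup G}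
    (hN : ∀ n ∈ N, φ n ∈ N) {x : G} (hx : (φ x)⁻¹ * x ∈ N) : x ∈ N := by
  let f : G → G := fun y => (φ y)⁻¹ * y
  have hinj : Function.Injective f := by
    intro a b h
    have h2 : φ (a * b⁻¹) = a * b⁻¹ := by
      rw [map_mul, map_inv]
      have h' := congrArg (fun t => φ a * t * b⁻¹) h
      simpa [f, mul_assoc] using h'.symm
    exact mul_inv_eq_one.mp (hφ _ h2)
  have hmaps : Set.MapsTo f N N := fun y hy => N.mul_mem (N.inv_mem (hN y hy)) hy
  obtain ⟨⟨m, hm⟩, he⟩ := Finite.injective_iff_surjective.mp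
    (hmaps.restrict_inj.mpr hinj.injOn) ⟨_, hx⟩
  rwa [hinj (congrArg Subtype.val he).symm]

theorem exists_sylow_map_eq (hφ : MonoidHom.FixedPointFree (φ : G →* G)) (p : ℕ) [Fact p.Prime] :
    ∃ P : Sylow p G, (P : Subgroup G).map (φ : G →* G) = P := by
  obtain ⟨P⟩ : Nonempty (Sylow p G) := inferInstance
  obtain ⟨g, hg⟩ := MulAction.exists_smul_eq G P (P.mapSurjective (f := (φ : G →* G)) φ.surjective)
  have hg' : MulAut.conj g • (P : Subgroup G) = (P : Subgroup G).map (φ : G →* G) := by
    rw [← Sylow.coe_mapSurjective φ.surjective P, ← hg]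
    rfl
  obtain ⟨y, hy⟩ := hφ.commutatorMap_surjective g⁻¹
  refine ⟨y⁻¹ • P, ?_⟩
  change (MulAut.conj y⁻¹ • (P : Subgroup G)).map (φ : G →* G) = MulAut.conj y⁻¹ • (P : Subgroup G)
  have e : (φ y)⁻¹ * g = y⁻¹ := by
    have h' := congrArg (fun t => y⁻¹ * t * g) hy
    simpa [MonoidHom.commutatorMap, div_eq_mul_inv, mul_assoc] using h'
  ext z
  obtain ⟨w, rfl⟩ := φ.surjective z
  change (φ : G →* G) w ∈ (MulAut.conj y⁻¹ • (P : Subgroup G)).map (φ : G →* G) ↔ _
  rw [Subgroup.mem_map_iff_mem φ.injective, mem_conj_smul, mem_conj_smul,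
    ← Subgroup.mem_map_iff_mem (f := (φ : G →* G)) φ.injective (K := (P : Subgroup G)),
    ← hg', mem_conj_smul]
  simp only [MonoidHom.coe_coe]
  rw [show (y⁻¹)⁻¹ * φ w * y⁻¹ = g⁻¹ * φ ((y⁻¹)⁻¹ * w * y⁻¹) * g from by
    simp only [map_mul, map_inv]
    rw [← e]
    group]

end Auto

section Action

variable {L V : Type*} [Group L] [CommGroup V]

/-- All nonidentity elements act without nonidentity fixed points. -/
def IsFPF (ρ : L →* MulAut V) : Prop := ∀ l : L, l ≠ 1 → ∀ v : V, ρ l v = v → v = 1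

variable {ρ : L →* MulAut V} (hρ : IsFPF ρ)
include hρ

theorem IsFPF.prod_range {z : L} (hz : z ≠ 1) {n : ℕ} (hn : z ^ n = 1) (v : V) :
    ∏ j ∈ Finset.range n, ρ (z ^ j) v = 1 := by
  refine hρ z hz _ ?_
  rw [map_prod]
  simp only [← MulAut.mul_apply, ← map_mul, ← pow_succ']
  have h1 := Finset.prod_range_succ (fun j => ρ (z ^ j) v) n
  have h2 := Finset.prod_range_succ' (fun j => ρ (z ^ j) v) n
  rw [h1, hn, pow_zero] at h2
  exact mul_right_cancel h2.symm

theorem IsFPF.prod_subgroup [Fintype L] {B : Subgroup L} [DecidablePred (· ∈ B)] (hB : B ≠ ⊥)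
    (v : V) : ∏ b : B, ρ (b : L) v = 1 := by
  obtain ⟨c, hc⟩ := Subgroup.ne_bot_iff_exists_ne_one.mp hB
  refine hρ c (fun h => hc (Subtype.ext h)) _ ?_
  rw [map_prod]
  exact Fintype.prod_equiv (Equiv.mulLeft c) _ _ (fun b => by
    rw [← MulAut.mul_apply, ← map_mul]; rfl)

theorem IsFPF.prod_univ [Fintype L] [Nontrivial L] (v : V) : ∏ l : L, ρ l v = 1 := by
  obtain ⟨c, hc⟩ := exists_ne (1 : L)
  refine hρ c hc _ ?_
  rw [map_prod]
  exact Fintype.prod_equiv (Equiv.mulLeft c) _ _ (fun b => by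
    rw [← MulAut.mul_apply, ← map_mul]; rfl)

/-- If `L` is partitioned by `k` nontrivial subgroups then `v ^ k = v`. -/
theorem IsFPF.pow_eq_self_of_partition [Finite L] [Nontrivial L] (S : Finset (Subgroup L))
    (hne : ∀ B ∈ S, B ≠ ⊥) (hcov : ∀ x : L, x ≠ 1 → ∃! B : Subgroup L, B ∈ S ∧ x ∈ B) (v : V) :
    v ^ S.card = v := by
  classical
  have := Fintype.ofFinite L
  let T : Subgroup L → Finset L := fun B => Finset.univ.filter fun x => x ∈ B ∧ x ≠ 1
  have hT : ∀ B ∈ S, ∏ x ∈ T B, ρ x v = v⁻¹ := by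
    intro B hB
    have hall : ∏ x ∈ Finset.univ.filter (fun x => x ∈ B), ρ x v = 1 := by
      rw [Finset.prod_subtype (p := fun x => x ∈ B) _ (fun x => by simp)]
      exact hρ.prod_subgroup (hne B hB) v
    have he : T B = (Finset.univ.filter (fun x => x ∈ B)).erase 1 := by
      ext x; simp [T, and_comm]
    rw [he, Finset.prod_erase_eq_div (by simp), hall]
    simp
  have hdisj : (S : Set (Subgroup L)).PairwiseDisjoint T := by
    intro B hB C hC hne'
    rw [Function.onFun, Finset.disjoint_left]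
    intro x hx hx'
    simp only [T, Finset.mem_filter, Finset.mem_univ, true_and] at hx hx'
    exact hne' ((hcov x hx.2).unique ⟨hB, hx.1⟩ ⟨hC, hx'.1⟩)
  have hu : S.biUnion T = (Finset.univ : Finset L).erase 1 := by
    ext x
    simp only [Finset.mem_biUnion, T, Finset.mem_filter, Finset.mem_univ, true_and,
      Finset.mem_erase, and_true]
    exact ⟨fun ⟨B, _, _, h⟩ => h, fun h => let ⟨B, hB, _⟩ := hcov x h; ⟨B, hB.1, hB.2, h⟩⟩
  have h1 := Finset.prod_biUnion (f := fun x => ρ x v) hdisj
  rw [hu, Finset.prod_erase_eq_div (Finset.mem_univ _), hρ.prod_univ v, Finset.prod_congr rfl hT,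
    Finset.prod_const, map_one, MulAut.one_apply, one_div, inv_pow, inv_inj] at h1
  exact h1.symm

theorem IsFPF.coprime_card [Finite L] [Finite V] : (Nat.card L).Coprime (Nat.card V) := by
  refine Nat.coprime_of_dvd fun p hp hpL hpV => ?_
  have := Fact.mk hp
  obtain ⟨a, ha⟩ := exists_prime_orderOf_dvd_card' p hpL
  have ha1 : a ≠ 1 := fun h => hp.ne_one (by rw [← ha, h, orderOf_one])
  let _ : MulAction (Subgroup.zpowers a) V :=
    MulAction.compHom V (ρ.comp (Subgroup.zpowers a).subtype)
  have hP : IsPGroup p (Subgroup.zpowers a) :=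
    IsPGroup.of_card (n := 1) (by rw [Nat.card_zpowers, ha, pow_one])
  have h1 : (1 : V) ∈ MulAction.fixedPoints (Subgroup.zpowers a) V := fun g => map_one (ρ (g : L))
  obtain ⟨b, hb, hb1⟩ := hP.exists_fixed_point_of_prime_dvd_card_of_fixed_point V hpV h1
  exact hb1 (hρ a ha1 b (hb ⟨a, Subgroup.mem_zpowers a⟩)).symm

theorem IsFPF.eq_one_of_pow_eq_one [Finite L] [Finite V] {n : ℕ} (hn : n ∣ Nat.card L) {v : V}
    (hv : v ^ n = 1) : v = 1 := by
  rw [← orderOf_eq_one_iff]
  exact Nat.eq_one_of_dvd_coprimes hρ.coprime_card ((orderOf_dvd_of_pow_eq_one hv).trans hn)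
    (orderOf_dvd_natCard v)

variable [Finite L] [Finite V] [Nontrivial V]

/-- Commuting elements of prime order `p` generate the same subgroup. -/
theorem IsFPF.mem_zpowers_of_commute {p : ℕ} (hp : p.Prime) {x y : L} (hx : orderOf x = p)
    (hy : y ^ p = 1) (hc : Commute x y) : y ∈ Subgroup.zpowers x := by
  by_contra hn
  obtain ⟨v, hv⟩ := exists_ne (1 : V)
  apply hv
  have hxp : x ^ p = 1 := hx ▸ pow_orderOf_eq_one x
  have hz : ∀ i, y * x ^ i ≠ 1 := fun i h => hn (by
    rw [mul_eq_one_iff_eq_inv] at h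
    rw [h]; exact Subgroup.inv_mem _ (pow_mem (Subgroup.mem_zpowers x) i))
  have hzp : ∀ i, (y * x ^ i) ^ p = 1 := fun i => by
    rw [(hc.pow_left i).symm.mul_pow, hy, ← pow_mul, mul_comm i p, pow_mul, hxp, one_pow, mul_one]
  have h0 : ∏ i ∈ Finset.range p, ∏ j ∈ Finset.range p, ρ ((y * x ^ i) ^ j) v = 1 :=
    Finset.prod_eq_one fun i _ => hρ.prod_range (hz i) (hzp i) v
  rw [Finset.prod_comm] at h0
  have hj : ∀ j ∈ Finset.range p, j ≠ 0 → ∏ i ∈ Finset.range p, ρ ((y * x ^ i) ^ j) v = 1 := by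
    intro j hj hj0
    have hxj : x ^ j ≠ 1 := fun h => by
      have h' := Nat.le_of_dvd (Nat.pos_of_ne_zero hj0) (hx ▸ orderOf_dvd_of_pow_eq_one h)
      exact absurd (Finset.mem_range.mp hj) (by omega)
    have e : ∀ i, ρ ((y * x ^ i) ^ j) v = ρ ((x ^ j) ^ i) (ρ (y ^ j) v) := fun i => by
      rw [← MulAut.mul_apply, ← map_mul, (hc.pow_left i).symm.mul_pow, ← pow_mul, ← pow_mul,
        mul_comm i j, ((hc.pow_pow _ j)).symm.eq]
    simp only [e]
    exact hρ.prod_range hxj (by rw [← pow_mul, mul_comm, pow_mul, hxp, one_pow]) _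
  rw [Finset.prod_eq_single_of_mem 0 (Finset.mem_range.mpr hp.pos) hj] at h0
  simp only [pow_zero, map_one, MulAut.one_apply, Finset.prod_const, Finset.card_range] at h0
  exact hρ.eq_one_of_pow_eq_one (hx ▸ orderOf_dvd_natCard x) h0

/-- A Frobenius group with a normal kernel has no fixed-point-free action. -/
theorem IsFPF.not_isFrobeniusComplement {M A : Subgroup L} (hM : M.Normal)
    (hc : Subgroup.IsComplement' M A) : ¬ Cfsg.IsFrobeniusComplement A := by
  classical
  intro hA
  have := Fintype.ofFinite L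
  have := Fintype.ofFinite (L ⧸ A)
  have hMK := coe_eq_frobeniusKernel hA hM hc
  have hMA : Nat.card M = A.index := by rw [← card_frobeniusKernel hA, ← hMK]; rfl
  let c : L ⧸ A → Subgroup L := fun q => MulAut.conj q.out • A
  have hcinj : Function.Injective c := by
    intro q r h
    rw [← QuotientGroup.out_eq' q, ← QuotientGroup.out_eq' r, QuotientGroup.eq]
    refine (conj_eq_of_inf_ne_bot hA ?_).1
    rw [show MulAut.conj q.out • A = MulAut.conj r.out • A from h, inf_idem]
    exact (conj_isFrobeniusComplement hA _).1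
  have hnotmem : ∀ q x, x ∈ c q → x ≠ 1 → x ∉ M := fun q x hx hx1 hxM =>
    mem_frobeniusKernel.mp ((Set.ext_iff.mp hMK x).mp hxM) hx1 _ (mem_conj_smul.mp hx)
  have hMS : M ∉ Finset.univ.image c := by
    simp only [Finset.mem_image, Finset.mem_univ, true_and, not_exists]
    intro q hq
    obtain ⟨x, hx⟩ := Subgroup.ne_bot_iff_exists_ne_one.mp (conj_isFrobeniusComplement hA q.out).1
    exact hnotmem q x x.2 (fun h => hx (Subtype.ext h)) (hq ▸ x.2)
  have : Nontrivial L := by
    obtain ⟨x, hx⟩ := Subgroup.ne_bot_iff_exists_ne_one.mp hA.1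
    exact ⟨⟨x, 1, fun h => hx (Subtype.ext h)⟩⟩
  obtain ⟨v, hv⟩ := exists_ne (1 : V)
  apply hv
  refine hρ.eq_one_of_pow_eq_one (n := A.index) (A.index_dvd_card) ?_
  have hk := hρ.pow_eq_self_of_partition (insert M (Finset.univ.image c)) ?_ ?_ v
  · rw [Finset.card_insert_of_notMem hMS, Finset.card_image_of_injective _ hcinj, Finset.card_univ,
      ← Nat.card_eq_fintype_card, pow_succ] at hk
    exact mul_eq_right.mp hk
  · intro B hB
    simp only [Finset.mem_insert, Finset.mem_image, Finset.mem_univ, true_and] at hB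
    rcases hB with rfl | ⟨q, rfl⟩
    · intro h
      have := two_le_index hA
      rw [h, Subgroup.card_bot] at hMA
      omega
    · exact (conj_isFrobeniusComplement hA _).1
  · intro x hx
    by_cases hxM : x ∈ M
    · refine ⟨M, ⟨Finset.mem_insert_self _ _, hxM⟩, ?_⟩
      rintro B ⟨hB, hxB⟩
      simp only [Finset.mem_insert, Finset.mem_image, Finset.mem_univ, true_and] at hB
      rcases hB with rfl | ⟨q, rfl⟩
      · rfl
      · exact absurd hxM (hnotmem q x hxB hx)
    · have hxU : x ∈ conjUnion A := by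
        by_contra h
        exact hxM ((Set.ext_iff.mp hMK x).mpr (by rwa [frobeniusKernel_eq_compl]))
      obtain ⟨-, g, hg⟩ := hxU
      obtain ⟨a, ha⟩ := QuotientGroup.mk_out_eq_mul A g
      have hxc : x ∈ c (g : L ⧸ A) := by
        refine mem_conj_smul.mpr ?_
        rw [ha]
        simpa [mul_assoc] using A.mul_mem (A.mul_mem (A.inv_mem a.2) hg) a.2
      refine ⟨c (g : L ⧸ A), ⟨by simp, hxc⟩, ?_⟩
      rintro B ⟨hB, hxB⟩
      simp only [Finset.mem_insert, Finset.mem_image, Finset.mem_univ, true_and] at hB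
      rcases hB with rfl | ⟨q, rfl⟩
      · exact absurd hxB hxM
      · refine (conj_eq_of_inf_ne_bot hA ?_).2
        intro h
        have hm : x ∈ c q ⊓ c (g : L ⧸ A) := ⟨hxB, hxc⟩
        rw [h, Subgroup.mem_bot] at hm
        exact hx hm

end Action

/-- A finite commutative group with at most `p` solutions of `x ^ p = 1` for all primes is cyclic. -/
theorem isCyclic_of_forall_prime {A : Type*} [CommGroup A] [Finite A]
    (h : ∀ p : ℕ, p.Prime → Nat.card (powMonoidHom p : A →* A).ker ≤ p) : IsCyclic A := by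
  classical
  have := Fintype.ofFinite A
  refine isCyclic_of_card_pow_eq_one_le fun n hn => ?_
  suffices ∀ n, 0 < n → Nat.card (powMonoidHom n : A →* A).ker ≤ n by
    refine le_trans (le_of_eq ?_) (this n hn)
    rw [← Fintype.card_subtype, ← Nat.card_eq_fintype_card]
    exact Nat.card_congr (Equiv.subtypeEquivRight fun x => by simp)
  intro n
  induction n using Nat.strong_induction_on with
  | _ n ih =>
  intro hn
  by_cases h1 : n = 1
  · subst h1
    rw [show (powMonoidHom 1 : A →* A).ker = ⊥ from by ext; simp, Subgroup.card_bot]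
  obtain ⟨p, hp, m, rfl⟩ := Nat.exists_prime_and_dvd h1
  have hm : 0 < m := Nat.pos_of_mul_pos_left hn
  let f : (powMonoidHom (p * m) : A →* A).ker →* (powMonoidHom m : A →* A).ker :=
    MonoidHom.codRestrict ((powMonoidHom p).comp (Subgroup.subtype _)) _ fun x => by
      change ((x : A) ^ p) ^ m = 1
      rw [← pow_mul]
      exact x.2
  rw [← f.ker.index_mul_card, Subgroup.index_ker]
  calc Nat.card f.range * Nat.card f.ker ≤ m * p := by
        refine Nat.mul_le_mul (le_trans (Subgroup.card_le_card_group _)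
          (ih m ((Nat.lt_mul_iff_one_lt_left hm).mpr hp.one_lt) hm)) (le_trans ?_ (h p hp))
        refine Nat.card_le_card_of_injective (fun x => ⟨x.1.1, ?_⟩) ?_
        · exact congrArg Subtype.val (MonoidHom.mem_ker.mp x.2)
        · intro a b hab
          exact Subtype.ext (Subtype.ext (congrArg (fun t : (powMonoidHom p : A →* A).ker => (t : A)) hab))
    _ = p * m := mul_comm _ _

section Cyclic

variable {L V : Type*} [Group L] [CommGroup V] [Finite L] [Finite V] [Nontrivial V]
  {ρ : L →* MulAut V} (hρ : IsFPF ρ)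
include hρ

theorem IsFPF.isCyclic_of_commutative [IsMulCommutative L] : IsCyclic L := by
  refine isCyclic_of_forall_prime fun p hp => ?_
  by_cases h : ∀ x ∈ (powMonoidHom p : L →* L).ker, x = 1
  · rw [(Subgroup.eq_bot_iff_forall _).mpr h, Subgroup.card_bot]
    exact hp.pos
  push Not at h
  obtain ⟨x, hx, hx1⟩ := h
  have hox : orderOf x = p := by
    have := Fact.mk hp
    exact orderOf_eq_prime (by simpa using hx) hx1
  calc Nat.card (powMonoidHom p : L →* L).ker ≤ Nat.card (Subgroup.zpowers x) :=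
        Subgroup.card_le_of_le fun y hy =>
          hρ.mem_zpowers_of_commute hp hox (by simpa using hy) (mul_comm x y)
    _ = p := by rw [Nat.card_zpowers, hox]

theorem IsFPF.isCyclic_of_card_eq_mul {p q : ℕ} (hp : p.Prime) (hq : q.Prime)
    (hcard : Nat.card L = p * q) : IsCyclic L := by
  wlog hle : p ≤ q generalizing p q
  · exact this hq hp (by rw [hcard, mul_comm]) (le_of_not_ge hle)
  rcases hle.eq_or_lt with rfl | hlt
  · have := Fact.mk hp
    have hc : ∀ a b : L, a * b = b * a :=
      (IsPGroup.commGroupOfCardEqPrimeSq (p := p) (G := L) (by rw [hcard, sq])).mul_comm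
    have : IsMulCommutative L := ⟨⟨hc⟩⟩
    exact hρ.isCyclic_of_commutative
  have := Fact.mk hp
  have := Fact.mk hq
  obtain ⟨Q⟩ : Nonempty (Sylow q L) := inferInstance
  have hQcard : Nat.card (Q : Subgroup L) = q := by
    rw [Q.card_eq_multiplicity, hcard, Nat.factorization_mul hp.ne_zero hq.ne_zero]
    simp [hp.factorization, hq.factorization, hlt.ne]
  have hidx : (Q : Subgroup L).index = p := by
    have := (Q : Subgroup L).index_mul_card
    rw [hQcard, hcard] at this
    exact Nat.eq_of_mul_eq_mul_right hq.pos this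
  have hn1 : Nat.card (Sylow q L) = 1 := by
    have h1 := Q.card_dvd_index
    rw [hidx, Nat.dvd_prime hp] at h1
    refine h1.resolve_right fun h => ?_
    have h2 := card_sylow_modEq_one q L
    rw [h, Nat.ModEq, Nat.mod_eq_of_lt hlt, Nat.mod_eq_of_lt hq.one_lt] at h2
    exact hp.ne_one h2
  have : Subsingleton (Sylow q L) := (Nat.card_eq_one_iff_unique.mp hn1).1
  have hQn : (Q : Subgroup L).Normal := Sylow.normal_of_subsingleton Q
  obtain ⟨a, ha⟩ := exists_prime_orderOf_dvd_card' p (hcard ▸ dvd_mul_right p q : p ∣ Nat.card L)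
  by_contra hcyc
  have hca : Nat.card (Subgroup.zpowers a) = p := by rw [Nat.card_zpowers, ha]
  have hc : Subgroup.IsComplement' (Q : Subgroup L) (Subgroup.zpowers a) := by
    refine Subgroup.isComplement'_of_coprime ?_ ?_
    · rw [hQcard, hca, hcard, mul_comm]
    · rw [hQcard, hca]
      exact (Nat.coprime_primes hq hp).mpr hlt.ne'
  refine hρ.not_isFrobeniusComplement hQn hc
    ((isFrobeniusComplement_iff_centralizer hc ?_ ?_).mpr ?_)
  · intro h; rw [h, Subgroup.card_bot] at hQcard; exact hq.ne_one hQcard.symm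
  · intro h; rw [h, Subgroup.card_bot] at hca; exact hp.ne_one hca.symm
  intro b hb hb1
  rw [Subgroup.eq_bot_iff_forall]
  rintro m ⟨hmQ, hmC⟩
  by_contra hm1
  refine hcyc (isCyclic_of_orderOf_eq_card (b * m) ?_)
  have hob : orderOf b = p :=
    ((Nat.dvd_prime hp).mp (hca ▸ (Subgroup.zpowers a).orderOf_dvd_natCard hb)).resolve_left
      (mt orderOf_eq_one_iff.mp hb1)
  have hom : orderOf m = q :=
    ((Nat.dvd_prime hq).mp (hQcard ▸ (Q : Subgroup L).orderOf_dvd_natCard hmQ)).resolve_left
      (mt orderOf_eq_one_iff.mp hm1)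
  have hbm : Commute b m := Subgroup.mem_centralizer_iff.mp hmC b rfl
  rw [hbm.orderOf_mul_eq_mul_orderOf_of_coprime
    (by rw [hob, hom]; exact (Nat.coprime_primes hp hq).mpr hlt.ne), hob, hom, hcard]

end Cyclic

section Internal

variable {G : Type*} [Group G] [Finite G]

/-- A subgroup normalising `V` and fixed-point-free on it acts fixed-point-freely. -/
theorem isFPF_conj {A V : Subgroup G} [IsMulCommutative V]
    (hAV : A ≤ Subgroup.normalizer (V : Set G))
    (hfpf : ∀ a ∈ A, a ≠ 1 → V ⊓ Subgroup.centralizer {a} = ⊥) :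
    IsFPF ((Subgroup.normalizerMonoidHom V).comp (Subgroup.inclusion hAV)) := by
  intro a ha v hv
  have h := congrArg Subtype.val hv
  simp only [MonoidHom.comp_apply, Subgroup.normalizerMonoidHom_apply_apply_coe,
    Subgroup.coe_inclusion] at h
  have hm : (v : G) ∈ V ⊓ Subgroup.centralizer {(a : G)} := by
    refine ⟨v.2, Subgroup.mem_centralizer_iff.mpr ?_⟩
    rintro y rfl
    exact mul_inv_eq_iff_eq_mul.mp h
  rw [hfpf a a.2 (fun h => ha (Subtype.ext h)), Subgroup.mem_bot] at hm
  exact Subtype.ext hm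

variable {K H : Subgroup G}

/-- In a Frobenius group `K ⋊ H` every prime `r` dividing the kernel order has an `H`-invariant
`r`-subgroup of full order in `K`. -/
theorem exists_invariant_pGroup (hH : Cfsg.IsFrobeniusComplement H) [K.Normal]
    (hc : Subgroup.IsComplement' K H) (r : ℕ) [Fact r.Prime] :
    ∃ R : Subgroup G, R ≤ K ∧ IsPGroup r R ∧ H ≤ Subgroup.normalizer (R : Set G) ∧
      Nat.card R = r ^ (Nat.card K).factorization r := by
  have hKH : Nat.card K = H.index :=
    Nat.eq_of_mul_eq_mul_right (Nat.card_pos (α := H)) (hc.card_mul_card.trans H.index_mul_card.symm)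
  have hKi : K.index = Nat.card H := hc.symm.index_eq_card
  obtain ⟨R⟩ : Nonempty (Sylow r K) := inferInstance
  let R' : Subgroup G := (R : Subgroup K).map K.subtype
  let N : Subgroup G := Subgroup.normalizer (R' : Set G)
  have hsup : N ⊔ K = ⊤ := Sylow.normalizer_sup_eq_top R
  have hN : (K.subgroupOf N).index = Nat.card H := by
    rw [← hKi, ← Subgroup.relIndex_top_right K, ← hsup, Subgroup.relIndex_sup_right]
    rfl
  have hcop : (Nat.card (K.subgroupOf N)).Coprime (K.subgroupOf N).index := by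
    rw [hN]
    refine ((coprime_card_index hH).symm).coprime_dvd_left ?_
    rw [← hKH]
    calc Nat.card (K.subgroupOf N) = Nat.card ((K ⊓ N : Subgroup G)) :=
          Nat.card_congr (Subgroup.equivMapOfInjective _ N.subtype N.subtype_injective |>.toEquiv.trans
            (Equiv.setCongr (by rw [Subgroup.subgroupOf_map_subtype])))
      _ ∣ Nat.card K := Subgroup.card_dvd_of_le inf_le_left
  obtain ⟨T, hT⟩ := Subgroup.exists_right_complement'_of_coprime hcop
  have hTcard : Nat.card (T.map N.subtype) = Nat.card H := by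
    rw [Subgroup.card_subtype, ← hN, hT.symm.index_eq_card]
  obtain ⟨x, hx⟩ := exists_le_conj_of_card_dvd hH (L := T.map N.subtype) hTcard.dvd
  have heq : T.map N.subtype = MulAut.conj x • H :=
    Subgroup.eq_of_le_of_card_ge hx
      (by rw [← Nat.card_congr (Subgroup.equivSMul (MulAut.conj x) H).toEquiv, hTcard])
  refine ⟨MulAut.conj x⁻¹ • R', ?_, ?_, ?_, ?_⟩
  · intro y hy
    rw [mem_conj_smul] at hy
    have := Subgroup.Normal.conj_mem ‹K.Normal› _ (Subgroup.map_subtype_le _ hy) x⁻¹
    simpa [mul_assoc] using this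
  · exact (R.2.map K.subtype).of_equiv (Subgroup.equivSMul (MulAut.conj x⁻¹) R')
  · intro h hh
    have hN' : x * h * x⁻¹ ∈ N := by
      refine Subgroup.map_subtype_le T (?_ : x * h * x⁻¹ ∈ T.map N.subtype)
      rw [heq, mem_conj_smul]
      simpa [mul_assoc] using hh
    rw [Subgroup.mem_normalizer_iff] at hN' ⊢
    intro y
    simp only [mem_conj_smul]
    have := hN' (x⁻¹⁻¹ * y * x⁻¹)
    rw [this]
    simp [mul_assoc]
  · rw [← Nat.card_congr (Subgroup.equivSMul (MulAut.conj x⁻¹) R').toEquiv, Subgroup.card_subtype,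
      R.card_eq_multiplicity]

/-- The complement of a Frobenius group normalises a nontrivial abelian subgroup of the kernel. -/
theorem exists_invariant_abelian (hH : Cfsg.IsFrobeniusComplement H) [K.Normal]
    (hc : Subgroup.IsComplement' K H) :
    ∃ V : Subgroup G, V ≤ K ∧ V ≠ ⊥ ∧ IsMulCommutative V ∧ H ≤ Subgroup.normalizer (V : Set G) ∧
      ∀ h ∈ H, h ≠ 1 → V ⊓ Subgroup.centralizer {h} = ⊥ := by
  have hKH : Nat.card K = H.index :=
    Nat.eq_of_mul_eq_mul_right (Nat.card_pos (α := H)) (hc.card_mul_card.trans H.index_mul_card.symm)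
  have hne : Nat.card K ≠ 1 := by have := two_le_index hH; omega
  obtain ⟨r, hr, hrd⟩ := Nat.exists_prime_and_dvd hne
  have := Fact.mk hr
  obtain ⟨R, hRK, hRp, hRH, hRc⟩ := exists_invariant_pGroup hH hc r
  have : Nontrivial R := by
    rw [← Finite.one_lt_card_iff_nontrivial, hRc]
    exact Nat.one_lt_pow (hr.factorization_pos_of_dvd Nat.card_pos.ne' hrd).ne' hr.one_lt
  have := hRp.center_nontrivial
  refine ⟨(Subgroup.center R).map R.subtype, (Subgroup.map_subtype_le _).trans hRK, ?_, ?_, ?_, ?_⟩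
  · rw [Ne, Subgroup.map_eq_bot_iff_of_injective _ R.subtype_injective]
    exact (Subgroup.nontrivial_iff_ne_bot _).mp this
  · infer_instance
  · intro h hh
    have hn := hRH hh
    rw [Subgroup.mem_normalizer_iff] at hn
    have key : ∀ h : G, (∀ y, y ∈ R ↔ h * y * h⁻¹ ∈ R) →
        ∀ y ∈ (Subgroup.center R).map R.subtype, h * y * h⁻¹ ∈ (Subgroup.center R).map R.subtype := by
      rintro h hn _ ⟨y, hy, rfl⟩
      refine ⟨⟨h * y * h⁻¹, (hn y).mp y.2⟩, ?_, rfl⟩
      rw [SetLike.mem_coe, Subgroup.mem_center_iff] at hy ⊢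
      intro z
      have hz : h⁻¹ * z * h ∈ R := (hn _).mpr (by simp [mul_assoc])
      have h3 := congrArg (fun t : R => h * (t : G) * h⁻¹) (hy ⟨h⁻¹ * z * h, hz⟩)
      exact Subtype.ext (by simpa [mul_assoc] using h3)
    rw [Subgroup.mem_normalizer_iff]
    refine fun y => ⟨key h hn y, fun hy => ?_⟩
    have := key h⁻¹ (fun z => ?_) _ hy
    · simpa [mul_assoc] using this
    · rw [hn (h⁻¹ * z * h⁻¹⁻¹)]; simp [mul_assoc]
  · intro h hh hh1
    refine le_bot_iff.mp (le_trans (inf_le_inf_right _ ((Subgroup.map_subtype_le _).trans hRK)) ?_)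
    refine le_of_eq ((Subgroup.eq_bot_iff_forall _).mpr ?_)
    rintro y ⟨hyK, hyC⟩
    exact Subgroup.disjoint_def.mp hc.disjoint hyK (centralizer_le hH hh hh1 hyC)

end Internal

end Cfsg.Agent.Lib.Frobenius
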