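import Mathlib.Algebra.CharP.Lemmas
import Mathlib.Tactic.NoncommRing
import Mathlib.Algebra.Ring.Subring.Basic
import Mathlib.FieldTheory.Finite.Basic
import Cfsg.Prelude.Def_Transfer
import Cfsg.Agent.Lib.Frobenius.FixedPointFree

/-!
# Quadratic action on abelian groups, `p` odd

* `commute_of_quadratic` : a quadratic element normalising an abelian `p'`-group of automorphisms
  of an elementary abelian `p`-group centralises it.
* `sq_card_mul_card_fixed_le` : if `A` is elementary abelian, normalises the abelian `p'`-group `X`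
  and acts faithfully on it, and `X` acts faithfully on `U`, then `|A| ^ 2 * |C_U(A)| ≤ |U|`.
-/

set_option autoImplicit false
set_option linter.unusedSectionVars false

namespace Cfsg.Agent.Lib.Frobenius.QuadraticAbelian

open scoped Pointwise

section Ring

variable {R : Type*} [Ring R] {p : ℕ}

theorem pow_prime_pow_of_mem_closure (hp : p.Prime) (hchar : (p : R) = 0) (hp2 : p ≠ 2) {s : Set R}
    (hcomm : ∀ x ∈ s, ∀ y ∈ s, x * y = y * x) {f : ℕ} (hs : ∀ x ∈ s, x ^ p ^ f = x)
    {z : R} (hz : z ∈ Subring.closure s) : z ^ p ^ f = z := by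
  have hC := Subring.isMulCommutative_closure hcomm
  induction hz using Subring.closure_induction with
  | mem x hx => exact hs x hx
  | zero => exact zero_pow (pow_ne_zero _ hp.ne_zero)
  | one => exact one_pow _
  | add x y hx hy ihx ihy =>
      have hxy : Commute x y :=
        congrArg Subtype.val (hC.is_comm.comm (⟨x, hx⟩ : Subring.closure s) ⟨y, hy⟩)
      obtain ⟨r, hr⟩ := hxy.exists_add_pow_prime_pow_eq hp f
      rw [hr, ihx, ihy, hchar]; simp
  | neg x _ ih => rw [((hp.odd_of_ne_two hp2).pow).neg_pow, ih]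
  | mul x y hx hy ihx ihy =>
      have hxy : Commute x y :=
        congrArg Subtype.val (hC.is_comm.comm (⟨x, hx⟩ : Subring.closure s) ⟨y, hy⟩)
      rw [hxy.mul_pow, ihx, ihy]

/-- The algebraic heart: in characteristic not two, `T ^ 2 = 0` and reducedness force
`T * Y = Y * T` for every `Y` of a commutative subring stable under conjugation by `1 ± T`. -/
theorem commute_of_sq_zero {T : R} (hT : T * T = 0) (S : Subring R)
    (hred : ∀ x ∈ S, x * x = 0 → x = 0)
    (hh2 : ∀ x : R, x + x ∈ S → x ∈ S)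
    (hplus : ∀ Y ∈ S, (1 + T) * Y * (1 - T) ∈ S) (hminus : ∀ Y ∈ S, (1 - T) * Y * (1 + T) ∈ S) :
    ∀ Y ∈ S, T * Y = Y * T := by
  have hTT : ∀ Y, T * (T * Y) = 0 := fun Y => by rw [← mul_assoc, hT, zero_mul]
  have key : ∀ Y ∈ S, T * Y * T = 0 ∧ T * Y - Y * T ∈ S := by
    intro Y hY
    have e1 : (1 + T) * Y * (1 - T) = Y + (T * Y - Y * T) - T * Y * T := by noncomm_ring
    have e2 : (1 - T) * Y * (1 + T) = Y - (T * Y - Y * T) - T * Y * T := by noncomm_ring
    have hM : -(T * Y * T) ∈ S := by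
      apply hh2
      have h := S.sub_mem (S.sub_mem (S.add_mem (hplus Y hY) (hminus Y hY)) hY) hY
      convert h using 1
      rw [e1, e2]; abel
    have hsq : (-(T * Y * T)) * -(T * Y * T) = 0 := by
      rw [neg_mul_neg, mul_assoc (T * Y) T, show T * (T * Y * T) = 0 by
        rw [mul_assoc T Y T, hTT], mul_zero]
    refine ⟨neg_eq_zero.mp (hred _ hM hsq), ?_⟩
    apply hh2
    have h := S.sub_mem (hplus Y hY) (hminus Y hY)
    convert h using 1
    rw [e1, e2]; abel
  intro Y hY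
  obtain ⟨h0, hE⟩ := key Y hY
  obtain ⟨h1, -⟩ := key (Y * Y) (S.mul_mem hY hY)
  refine sub_eq_zero.mp (hred _ hE ?_)
  calc (T * Y - Y * T) * (T * Y - Y * T)
      = (T * Y * T) * Y + Y * (T * Y * T) - T * (Y * Y) * T - Y * ((T * T) * Y) := by noncomm_ring
    _ = 0 := by rw [h0, h1, hT]; simp

theorem one_add_mul_one_sub {T : R} (hT : T * T = 0) : (1 + T) * (1 - T) = 1 := by
  calc (1 + T) * (1 - T) = 1 - T * T := by noncomm_ring
    _ = 1 := by rw [hT, sub_zero]

theorem conj_mem_closure {B C : R} (h1 : B * C = 1) (h2 : C * B = 1) {s : Set R}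
    (hs : ∀ x ∈ s, B * x * C ∈ Subring.closure s) {Y : R} (hY : Y ∈ Subring.closure s) :
    B * Y * C ∈ Subring.closure s := by
  induction hY using Subring.closure_induction with
  | mem Y hY => exact hs Y hY
  | zero => simp
  | one => rw [mul_one, h1]; exact one_mem _
  | add Y Z _ _ hY hZ => rw [mul_add, add_mul]; exact add_mem hY hZ
  | neg Y _ hY => rw [mul_neg, neg_mul]; exact neg_mem hY
  | mul Y Z _ _ hY hZ =>
      have := mul_mem hY hZ
      rwa [show B * Y * C * (B * Z * C) = B * (Y * Z) * C by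
        simp only [mul_assoc]; rw [← mul_assoc C B, h2, one_mul]] at this

theorem eq_half_mul (hchar : (p : R) = 0) {k : ℕ} (hk : (k + 1) + (k + 1) = p + 1) (x : R) :
    x = ((k + 1 : ℕ) : R) * (x + x) := by
  rw [← two_mul, ← mul_assoc, show ((k + 1 : ℕ) : R) * 2 = ((p + 1 : ℕ) : R) by
    rw [← hk]; push_cast; noncomm_ring, Nat.cast_succ, hchar, zero_add, one_mul]

end Ring

variable {U : Type*} [CommGroup U] [Finite U] {p : ℕ} [hp : Fact p.Prime]

/-- A quadratic element normalising an abelian `p'`-group centralises it (`p` odd). -/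
theorem commute_of_quadratic (hp2 : p ≠ 2) (hU : ∀ u : U, u ^ p = 1) (a : MulAut U)
    (X : Subgroup (MulAut U)) (hXc : IsMulCommutative X) (hXp : (Nat.card X).Coprime p)
    (hX : ∀ x ∈ X, a * x * a⁻¹ ∈ X) (hX' : ∀ x ∈ X, a⁻¹ * x * a ∈ X)
    (hq : ∀ u : U, a (a u * u⁻¹) = a u * u⁻¹) :
    ∀ x ∈ X, a * x = x * a := by
  let R := AddMonoid.End (Additive U)
  let φ : MulAut U →* R :=
    { toFun := fun σ => MonoidHom.toAdditive (σ : U →* U)
      map_one' := rfl
      map_mul' := fun _ _ => rfl }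
  have hinj : Function.Injective φ := fun σ τ h =>
    MulEquiv.ext fun u => congrArg Additive.toMul (DFunLike.congr_fun h (Additive.ofMul u))
  have hchar : (p : R) = 0 := by
    refine AddMonoidHom.ext fun u => ?_
    exact (AddMonoid.End.natCast_apply p u).trans (congrArg Additive.ofMul (hU u.toMul))
  let T : R := φ a - 1
  have hT : T * T = 0 := by
    refine AddMonoidHom.ext fun u => ?_
    have h := hq u.toMul
    rw [← div_eq_mul_inv] at h
    exact sub_eq_zero.mpr (congrArg Additive.ofMul h)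
  have ha' : φ a⁻¹ = 1 - T := by
    have h1 : φ a⁻¹ * (1 + T) = 1 := by
      rw [show (1 : R) + T = φ a by simp [T], ← map_mul, inv_mul_cancel, map_one]
    calc φ a⁻¹ = φ a⁻¹ * ((1 + T) * (1 - T)) := by
          rw [one_add_mul_one_sub hT, mul_one]
      _ = 1 - T := by rw [← mul_assoc, h1, one_mul]
  have ha : φ a = 1 + T := by simp [T]
  let S := Subring.closure (φ '' (X : Set (MulAut U)))
  have hcomm : ∀ x ∈ φ '' (X : Set (MulAut U)), ∀ y ∈ φ '' (X : Set (MulAut U)),
      x * y = y * x := by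
    rintro _ ⟨x, hx, rfl⟩ _ ⟨y, hy, rfl⟩
    rw [← map_mul, ← map_mul]
    exact congrArg φ (congrArg Subtype.val (hXc.is_comm.comm (⟨x, hx⟩ : X) ⟨y, hy⟩))
  let f := Nat.totient (Nat.card X)
  have hf1 : 1 ≤ f := Nat.totient_pos.mpr Nat.card_pos
  have hpow : ∀ x ∈ φ '' (X : Set (MulAut U)), x ^ p ^ f = x := by
    rintro _ ⟨x, hx, rfl⟩
    rw [← map_pow]
    congr 1
    refine congrArg Subtype.val (a₁ := (⟨x, hx⟩ : X) ^ p ^ f) (a₂ := ⟨x, hx⟩) ?_
    rw [← pow_mod_natCard]
    have h : p ^ f % Nat.card X = 1 % Nat.card X := Nat.ModEq.pow_totient hXp.symm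
    rw [h, pow_mod_natCard, pow_one]
  have hconj : ∀ b c : MulAut U, b * c = 1 → (∀ x ∈ X, b * x * c ∈ X) →
      ∀ Y ∈ S, φ b * Y * φ c ∈ S := by
    intro b c hbc hb Y hY
    have h1 : φ b * φ c = 1 := by rw [← map_mul, hbc, map_one]
    have h2 : φ c * φ b = 1 := by rw [← map_mul, mul_eq_one_comm.mp hbc, map_one]
    refine conj_mem_closure h1 h2 ?_ hY
    rintro _ ⟨x, hx, rfl⟩
    rw [← map_mul, ← map_mul]
    exact Subring.subset_closure ⟨_, hb x hx, rfl⟩
  obtain ⟨k, hk⟩ := hp.out.odd_of_ne_two hp2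
  have hhalf : ∀ x : R, x = ((k + 1 : ℕ) : R) * (x + x) :=
    eq_half_mul hchar (by omega)
  have hred : ∀ x ∈ S, x * x = 0 → x = 0 := by
    intro x hx hxx
    have hpf : 2 ≤ p ^ f :=
      hp.out.two_le.trans (Nat.le_self_pow (Nat.pos_iff_ne_zero.mp hf1) p)
    rw [← pow_prime_pow_of_mem_closure hp.out hchar hp2 hcomm hpow hx,
      show p ^ f = 2 + (p ^ f - 2) by omega, pow_add, pow_two, hxx, zero_mul]
  have key := commute_of_sq_zero hT S hred
    (fun x hx => by rw [hhalf x]; exact S.mul_mem (natCast_mem S _) hx)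
    (fun Y hY => by rw [← ha, ← ha']; exact hconj a a⁻¹ (mul_inv_cancel a) hX Y hY)
    (fun Y hY => by rw [← ha, ← ha']; exact hconj a⁻¹ a (inv_mul_cancel a) hX' Y hY)
  intro x hx
  apply hinj
  rw [map_mul, map_mul, ha, add_mul, mul_add, one_mul, mul_one,
    key _ (Subring.subset_closure ⟨x, hx, rfl⟩)]

section Offender

variable {M : Type*} [Group M] [Finite M] (ρ : M →* MulAut U)

/-- The fixed points of a subgroup. -/
def fixedSub (A : Subgroup M) : Subgroup U where
  carrier := {u | ∀ a ∈ A, ρ a u = u}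
  mul_mem' := fun {u v} hu hv a ha => by rw [map_mul, hu a ha, hv a ha]
  one_mem' := fun a _ => map_one _
  inv_mem' := fun {u} hu a ha => by rw [map_inv, hu a ha]

theorem mem_fixedSub {A : Subgroup M} {u : U} : u ∈ fixedSub ρ A ↔ ∀ a ∈ A, ρ a u = u := Iff.rfl

theorem fixedSub_antitone {A B : Subgroup M} (h : A ≤ B) : fixedSub ρ B ≤ fixedSub ρ A :=
  fun _ hu a ha => hu a (h ha)

theorem apply_mem_fixedSub (K : Subgroup M) (g : Subgroup.centralizer (K : Set M))
    {u : U} (hu : u ∈ fixedSub ρ K) : ρ (g : M) u ∈ fixedSub ρ K := by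
  intro k hk
  rw [← MulAut.mul_apply, ← map_mul, Subgroup.mem_centralizer_iff.mp g.2 k hk, map_mul,
    MulAut.mul_apply, hu k hk]

/-- The centralizer of `K` acting on the fixed points of `K`. -/
def restrictHom (K : Subgroup M) :
    Subgroup.centralizer (K : Set M) →* MulAut (fixedSub ρ K) where
  toFun g :=
    { toFun := fun u => ⟨ρ (g : M) (u : U), apply_mem_fixedSub ρ K g u.2⟩
      invFun := fun u => ⟨ρ ((g⁻¹ : Subgroup.centralizer (K : Set M)) : M) (u : U),
        apply_mem_fixedSub ρ K g⁻¹ u.2⟩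
      left_inv := fun u => Subtype.ext (by
        change ρ ((g : M)⁻¹) (ρ (g : M) (u : U)) = u
        rw [← MulAut.mul_apply, ← map_mul, inv_mul_cancel, map_one, MulAut.one_apply])
      right_inv := fun u => Subtype.ext (by
        change ρ (g : M) (ρ ((g : M)⁻¹) (u : U)) = u
        rw [← MulAut.mul_apply, ← map_mul, mul_inv_cancel, map_one, MulAut.one_apply])
      map_mul' := fun u v => Subtype.ext (map_mul (ρ (g : M)) (u : U) v) }
  map_one' := MulEquiv.ext fun u => Subtype.ext (by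
    change ρ 1 (u : U) = u
    rw [map_one, MulAut.one_apply])
  map_mul' g g' := MulEquiv.ext fun u => Subtype.ext (by
    change ρ ((g : M) * g') (u : U) = ρ (g : M) (ρ (g' : M) (u : U))
    rw [map_mul, MulAut.mul_apply])

/-- A `p'`-element commuting with a `p`-group and fixing its fixed points acts trivially. -/
theorem apply_eq_self_of_fixed (hU : ∀ u : U, u ^ p = 1) {B : Subgroup M} (hB : IsPGroup p B)
    {y : M} (hy : (orderOf y).Coprime p) (hc : ∀ b ∈ B, Commute b y)
    (h : ∀ u ∈ fixedSub ρ B, ρ y u = u) : ∀ u, ρ y u = u := by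
  by_contra hne
  push Not at hne
  obtain ⟨u₀, hu₀⟩ := hne
  -- the commutator subgroup `[U, y]`
  let δ : U →* U :=
    { toFun := fun u => ρ y u * u⁻¹
      map_one' := by simp
      map_mul' := fun u v => by rw [map_mul, mul_inv, mul_mul_mul_comm] }
  have hδ : δ.range ≠ ⊥ := fun h0 => hu₀ (by
    have : δ u₀ ∈ δ.range := ⟨u₀, rfl⟩
    rw [h0, Subgroup.mem_bot] at this
    exact mul_inv_eq_one.mp this)
  have hfix : ∀ v ∈ δ.range, ρ y v = v → v = 1 := by
    rintro _ ⟨u, rfl⟩ hv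
    have hstep : ∀ n : ℕ, ρ (y ^ n) u = (δ u) ^ n * u := by
      intro n
      induction n with
      | zero => simp
      | succ n ih =>
          have h1 : ρ y u = δ u * u := by
            change ρ y u = ρ y u * u⁻¹ * u
            rw [inv_mul_cancel_right]
          rw [pow_succ', map_mul, MulAut.mul_apply, ih, map_mul, map_pow, hv, h1, pow_succ,
            mul_assoc]
    have h1 := hstep (orderOf y)
    rw [pow_orderOf_eq_one, map_one, MulAut.one_apply] at h1
    have h2 : orderOf (δ u) ∣ orderOf y := orderOf_dvd_of_pow_eq_one (mul_eq_right.mp h1.symm)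
    rw [← orderOf_eq_one_iff]
    exact Nat.eq_one_of_dvd_coprimes hy h2 (orderOf_dvd_of_pow_eq_one (hU _))
  have hinv : ∀ b ∈ B, ∀ v ∈ δ.range, ρ b v ∈ δ.range := by
    rintro b hb _ ⟨u, rfl⟩
    refine ⟨ρ b u, ?_⟩
    change ρ y (ρ b u) * (ρ b u)⁻¹ = ρ b (ρ y u * u⁻¹)
    have e : ρ y (ρ b u) = ρ b (ρ y u) := by
      rw [← MulAut.mul_apply, ← MulAut.mul_apply, ← map_mul, ← map_mul, (hc b hb).eq]
    rw [map_mul (ρ b), map_inv (ρ b), e]
  let _ : MulAction B δ.range :=
    { smul := fun b v => ⟨ρ (b : M) v, hinv b b.2 v v.2⟩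
      one_smul := fun v => Subtype.ext (by change ρ 1 _ = _; rw [map_one, MulAut.one_apply])
      mul_smul := fun b c v => Subtype.ext (by
        change ρ ((b : M) * c) (v : U) = ρ (b : M) (ρ (c : M) (v : U))
        rw [map_mul, MulAut.mul_apply]) }
  have hdvd : p ∣ Nat.card δ.range := by
    obtain ⟨v, hv⟩ := Subgroup.ne_bot_iff_exists_ne_one.mp hδ
    have hov : orderOf v = p := orderOf_eq_prime (Subtype.ext (hU v)) hv
    exact hov ▸ orderOf_dvd_natCard v
  obtain ⟨v, hv, hv1⟩ := hB.exists_fixed_point_of_prime_dvd_card_of_fixed_point δ.range hdvd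
    (a := 1) (fun b => Subtype.ext (map_one (ρ (b : M))))
  have hvB : (v : U) ∈ fixedSub ρ B := fun b hb => congrArg Subtype.val (hv ⟨b, hb⟩)
  exact hv1 (Subtype.ext (hfix v v.2 (h v hvB))).symm

/-- A maximal subgroup `K` of `A` whose centralizer in `X` is not centralized by `A`. -/
theorem exists_hyperplane {X A : Subgroup M} (hXc : ∀ x ∈ X, ∀ y ∈ X, x * y = y * x)
    (hXp : (Nat.card X).Coprime p) (hA : Cfsg.IsElementaryAbelian p A)
    (hAX : ∀ a ∈ A, ∀ x ∈ X, a * x * a⁻¹ ∈ X)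
    (hfaith : ∀ a ∈ A, (∀ x ∈ X, Commute a x) → a = 1) (hA1 : A ≠ ⊥) :
    ∃ K : Subgroup M, K ≤ A ∧ (∃ x ∈ X, (∀ k ∈ K, Commute k x) ∧ ∃ a ∈ A, ¬ Commute a x) ∧
      ∀ c ∈ A, c ∉ K → A ≤ K ⊔ Subgroup.zpowers c := by
  classical
  let P : Set (Subgroup M) :=
    {K | K ≤ A ∧ ∃ x ∈ X, (∀ k ∈ K, Commute k x) ∧ ∃ a ∈ A, ¬ Commute a x}
  have hbot : (⊥ : Subgroup M) ∈ P := by
    refine ⟨bot_le, ?_⟩
    by_contra hne
    push Not at hne
    obtain ⟨⟨a, ha⟩, ha1⟩ := Subgroup.ne_bot_iff_exists_ne_one.mp hA1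
    refine ha1 (Subtype.ext (hfaith a ha fun x hx => hne x hx (fun k hk => ?_) a ha))
    rw [Subgroup.mem_bot] at hk; rw [hk]; exact Commute.one_left x
  obtain ⟨K, ⟨hKA, x, hx, hKx, hnc⟩, hmax⟩ := (Set.toFinite P).exists_maximal ⟨⊥, hbot⟩
  refine ⟨K, hKA, ⟨x, hx, hKx, hnc⟩, fun c hc hcK => ?_⟩
  by_contra hle
  obtain ⟨d, hd, hdK⟩ := SetLike.not_le_iff_exists.mp hle
  -- every subgroup strictly above `K` centralizes only `A`-central elements
  have habove : ∀ g ∈ A, g ∉ K → ∀ w ∈ X, (∀ k ∈ K, Commute k w) → Commute g w →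
      ∀ a ∈ A, Commute a w := by
    intro g hg hgK w hw hwK hgw a ha
    by_contra hna
    apply hgK
    have hsup : K ⊔ Subgroup.zpowers g ∈ P := by
      refine ⟨sup_le hKA (Subgroup.zpowers_le.mpr hg), w, hw, ?_, a, ha, hna⟩
      have hle' : K ⊔ Subgroup.zpowers g ≤ Subgroup.centralizer {w} := by
        refine sup_le (fun k hk => ?_) (Subgroup.zpowers_le.mpr ?_)
        · exact Subgroup.mem_centralizer_singleton_iff.mpr (hwK k hk).eq
        · exact Subgroup.mem_centralizer_singleton_iff.mpr hgw.eq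
      exact fun k hk => Subgroup.mem_centralizer_singleton_iff.mp (hle' hk)
    exact hmax hsup le_sup_left (le_sup_right (a := K) (Subgroup.mem_zpowers g))
  -- conjugation of `A` on `X`
  let _ : CommGroup X :=
    { X.toGroup with mul_comm := fun u v => Subtype.ext (hXc u u.2 v v.2) }
  let cj : M → X → X := fun g w => if hg : g ∈ A then ⟨g * w * g⁻¹, hAX g hg w w.2⟩ else 1
  have hcj : ∀ g, g ∈ A → ∀ w : X, (cj g w : M) = g * w * g⁻¹ := fun g hg w => by simp [cj, hg]
  let x' : X := ⟨x, hx⟩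
  have hnorm : ∀ g ∈ A, g ∉ K → ∀ w : X, (∀ k ∈ K, Commute k (w : M)) →
      ∀ a ∈ A, Commute a ((∏ j ∈ Finset.range p, cj (g ^ j) w : X) : M) := by
    intro g hg hgK w hw a ha
    let C : X →* X :=
      { toFun := fun v => cj g v
        map_one' := Subtype.ext (by rw [hcj g hg]; simp)
        map_mul' := fun u v => Subtype.ext (by
          rw [Subgroup.coe_mul, hcj g hg, hcj g hg, hcj g hg, Subgroup.coe_mul]; group) }
    have hcomm : ∀ k ∈ K, Commute k g := fun k hk =>
      congrArg Subtype.val (hA.1.is_comm.comm (⟨k, hKA hk⟩ : A) ⟨g, hg⟩)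
    refine habove g hg hgK _ (SetLike.coe_mem _) (fun k hk => ?_) ?_ a ha
    · have : ∀ j ∈ Finset.range p, Commute k (cj (g ^ j) w : M) := fun j _ => by
        rw [hcj _ (pow_mem hg j)]
        exact (((hcomm k hk).pow_right j).mul_right (hw k hk)).mul_right
          ((hcomm k hk).pow_right j).inv_right
      exact Finset.prod_induction _ (fun v : X => Commute k (v : M))
        (fun u v hu hv => hu.mul_right hv) (Commute.one_right k) this
    · have hfix : C (∏ j ∈ Finset.range p, cj (g ^ j) w) = ∏ j ∈ Finset.range p, cj (g ^ j) w := by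
        rw [map_prod]
        have hstep : ∀ j, C (cj (g ^ j) w) = cj (g ^ (j + 1)) w := fun j => Subtype.ext (by
          change (cj g (cj (g ^ j) w) : M) = _
          rw [hcj g hg, hcj _ (pow_mem hg j), hcj _ (pow_mem hg _), pow_succ']
          group)
        simp only [hstep]
        have h1 := Finset.prod_range_succ (fun j => cj (g ^ j) w) p
        have h2 := Finset.prod_range_succ' (fun j => cj (g ^ j) w) p
        rw [h1, hA.2 g hg, pow_zero] at h2
        exact mul_right_cancel h2.symm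
      have := congrArg Subtype.val hfix
      rw [show (C (∏ j ∈ Finset.range p, cj (g ^ j) w) : M) = g * _ * g⁻¹ from hcj g hg _] at this
      exact mul_inv_eq_iff_eq_mul.mp this
  have hdA : ∀ i, d * c ^ i ∈ A := fun i => A.mul_mem hd (pow_mem hc i)
  have hdK' : ∀ i, d * c ^ i ∉ K := fun i h => hdK (by
    have h1 : d * c ^ i ∈ K ⊔ Subgroup.zpowers c := le_sup_left (b := Subgroup.zpowers c) h
    have h2 : c ^ i ∈ K ⊔ Subgroup.zpowers c :=
      le_sup_right (a := K) (pow_mem (Subgroup.mem_zpowers c) i)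
    simpa using Subgroup.mul_mem _ h1 (Subgroup.inv_mem _ h2))
  have hcd : Commute d c := congrArg Subtype.val (hA.1.is_comm.comm (⟨d, hd⟩ : A) ⟨c, hc⟩)
  have hAcomm : ∀ a ∈ A, ∀ b ∈ A, Commute a b := fun a ha b hb =>
    congrArg Subtype.val (hA.1.is_comm.comm (⟨a, ha⟩ : A) ⟨b, hb⟩)
  -- the central elements
  let Z : Subgroup X :=
    { carrier := {w | ∀ a ∈ A, Commute a (w : M)}
      mul_mem' := fun hu hv a ha => (hu a ha).mul_right (hv a ha)
      one_mem' := fun a _ => Commute.one_right a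
      inv_mem' := fun hu a ha => (hu a ha).inv_right }
  have h0 : (∏ i ∈ Finset.range p, ∏ j ∈ Finset.range p, cj ((d * c ^ i) ^ j) x') ∈ Z :=
    Subgroup.prod_mem _ fun i _ a ha => hnorm _ (hdA i) (hdK' i) x' hKx a ha
  rw [Finset.prod_comm, ← Finset.mul_prod_erase _ _ (Finset.mem_range.mpr hp.out.pos)] at h0
  have h1 : (∏ j ∈ (Finset.range p).erase 0, ∏ i ∈ Finset.range p, cj ((d * c ^ i) ^ j) x') ∈ Z := by
    refine Subgroup.prod_mem _ fun j hj => ?_
    rw [Finset.mem_erase, Finset.mem_range] at hj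
    have hcjK : c ^ j ∉ K := fun h => hcK (by
      have hcop : (j : ℕ).Coprime (orderOf c) := by
        refine Nat.Coprime.coprime_dvd_right (orderOf_dvd_of_pow_eq_one (hA.2 c hc)) ?_
        exact ((hp.out.coprime_iff_not_dvd).mpr fun hd =>
          absurd (Nat.le_of_dvd (Nat.pos_of_ne_zero hj.1) hd) (not_le.mpr hj.2)).symm
      obtain ⟨m, hm⟩ := exists_pow_eq_self_of_coprime hcop
      rw [← hm]; exact pow_mem h m)
    have e : ∀ i, cj ((d * c ^ i) ^ j) x' = cj ((c ^ j) ^ i) (cj (d ^ j) x') := fun i => by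
      refine Subtype.ext ?_
      rw [hcj _ (pow_mem (hdA i) j), hcj _ (pow_mem (pow_mem hc j) i), hcj _ (pow_mem hd j),
        (hcd.pow_right i).mul_pow, ← pow_mul, ← pow_mul, mul_comm i j,
        (hcd.pow_pow j (j * i)).eq]
      group
    simp only [e]
    exact fun a ha => hnorm _ (pow_mem hc j) hcjK _ (fun k hk => by
      rw [hcj _ (pow_mem hd j)]
      exact ((hAcomm k (hKA hk) _ (pow_mem hd j)).mul_right (hKx k hk)).mul_right
        (hAcomm k (hKA hk) _ (pow_mem hd j)).inv_right) a ha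
  have hxp : x' ^ p ∈ Z := by
    have hc0 : ∀ i : ℕ, cj ((d * c ^ i) ^ 0) x' = x' := fun i => by
      refine Subtype.ext ?_
      rw [hcj _ (pow_mem (hdA i) 0)]; simp
    simp only [hc0, Finset.prod_const, Finset.card_range] at h0
    exact (Subgroup.mul_mem_cancel_right _ h1).mp h0
  obtain ⟨m, hm⟩ := exists_pow_eq_self_of_coprime (x := x') (n := p)
    (hXp.symm.coprime_dvd_right (orderOf_dvd_natCard _))
  obtain ⟨a, ha, hna⟩ := hnc
  exact hna ((hm ▸ pow_mem hxp m : x' ∈ Z) a ha)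

set_option maxHeartbeats 1000000 in
theorem sq_card_mul_card_fixed_le (hp2 : p ≠ 2) (hU : ∀ u : U, u ^ p = 1) {X : Subgroup M}
    (hXc : ∀ x ∈ X, ∀ y ∈ X, x * y = y * x) (hXp : (Nat.card X).Coprime p)
    (hXf : ∀ x ∈ X, (∀ u, ρ x u = u) → x = 1) :
    ∀ A : Subgroup M, Cfsg.IsElementaryAbelian p A → (∀ a ∈ A, ∀ x ∈ X, a * x * a⁻¹ ∈ X) →
      (∀ a ∈ A, (∀ x ∈ X, Commute a x) → a = 1) →
      Nat.card A ^ 2 * Nat.card (fixedSub ρ A) ≤ Nat.card U := by
  intro A
  induction h : Nat.card A using Nat.strong_induction_on generalizing A with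
  | _ n ih =>
  subst h
  intro hA hAX hfaith
  by_cases hA1 : A = ⊥
  · subst hA1
    rw [Subgroup.card_bot, one_pow, one_mul]
    exact Subgroup.card_le_card_group _
  obtain ⟨K, hKA, ⟨x, hx, hKx, a, ha, hax⟩, hmax⟩ := exists_hyperplane hXc hXp hA hAX hfaith hA1
  have haK : a ∉ K := fun h => hax (hKx a h)
  have hAeq : A = K ⊔ Subgroup.zpowers a :=
    le_antisymm (hmax a ha haK) (sup_le hKA (Subgroup.zpowers_le.mpr ha))
  have hlt : Nat.card K < Nat.card A := by
    refine lt_of_le_of_ne (Subgroup.card_le_of_le hKA) fun he => ?_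
    exact haK (Subgroup.eq_of_le_of_card_ge hKA he.ge ▸ ha)
  have hKel : Cfsg.IsElementaryAbelian p K :=
    ⟨⟨⟨fun u v => Subtype.ext
        (congrArg (fun t : A => (t : M)) (hA.1.is_comm.comm (⟨u, hKA u.2⟩ : A) ⟨v, hKA v.2⟩))⟩⟩,
      fun b hb => hA.2 b (hKA hb)⟩
  have hind := ih _ hlt K rfl hKel (fun b hb => hAX b (hKA hb))
    (fun b hb => hfaith b (hKA hb))
  have hAcomm : ∀ a ∈ A, ∀ b ∈ A, Commute a b := fun a ha b hb =>
    congrArg Subtype.val (hA.1.is_comm.comm (⟨a, ha⟩ : A) ⟨b, hb⟩)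
  -- `|A| ≤ p |K|`
  have hAle : Nat.card A ≤ p * Nat.card K := by
    let g : Fin p × K → A := fun t =>
      ⟨a ^ (t.1 : ℕ) * (t.2 : M), A.mul_mem (pow_mem ha _) (hKA t.2.2)⟩
    have hsurj : Function.Surjective g := by
      rintro ⟨b, hb⟩
      have hnorm : Subgroup.zpowers a ≤ Subgroup.normalizer (K : Set M) := by
        rw [Subgroup.zpowers_le, Subgroup.mem_normalizer_iff]
        intro k
        constructor
        · intro hk
          rwa [(hAcomm a ha k (hKA hk)).eq, mul_inv_cancel_right]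
        · intro hk
          have hk' := hk
          have h2 := (hAcomm a⁻¹ (A.inv_mem ha) _ (hKA hk)).eq
          have : k = a⁻¹ * (a * k * a⁻¹) * a := by group
          rw [this, h2, inv_mul_cancel_right]
          exact hk'
      have hb' : b ∈ ((Subgroup.zpowers a : Subgroup M) : Set M) * (K : Set M) := by
        rw [← Subgroup.coe_mul_of_left_le_normalizer_right _ _ hnorm, sup_comm, ← hAeq]
        exact hb
      obtain ⟨u, hu, k, hk, rfl⟩ := hb'
      obtain ⟨e, rfl⟩ := Subgroup.mem_zpowers_iff.mp hu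
      have he : a ^ (e % (p : ℤ)).toNat = a ^ e := by
        rw [← zpow_natCast, Int.toNat_of_nonneg
          (Int.emod_nonneg _ (Int.natCast_ne_zero.mpr hp.out.ne_zero))]
        exact zpow_eq_zpow_emod' e (by simpa using hA.2 a ha) |>.symm
      refine ⟨(⟨(e % (p : ℤ)).toNat, ?_⟩, ⟨k, hk⟩), Subtype.ext (by simp [g, he])⟩
      have h1 := Int.emod_nonneg e (Int.natCast_ne_zero.mpr hp.out.ne_zero)
      have h2 := Int.emod_lt_of_pos e (Int.natCast_pos.mpr hp.out.pos)
      omega
    have := Nat.card_le_card_of_surjective g hsurj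
    rwa [Nat.card_prod, Nat.card_fin] at this
  -- the fixed points of `A` inside those of `K`
  let U₁ := fixedSub ρ K
  let C : Subgroup M := Subgroup.centralizer (K : Set M)
  have hC : ∀ g ∈ C, ∀ k ∈ K, Commute k g := fun g hg k hk =>
    Subgroup.mem_centralizer_iff.mp hg k hk
  let σ : C →* MulAut U₁ := restrictHom ρ K
  have haC : a ∈ C := Subgroup.mem_centralizer_iff.mpr fun k hk => (hAcomm k (hKA hk) a ha).eq
  have hxC : x ∈ C := Subgroup.mem_centralizer_iff.mpr fun k hk => (hKx k hk).eq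
  let aa : MulAut U₁ := σ ⟨a, haC⟩
  let X₁ : Subgroup (MulAut U₁) := (X.subgroupOf C).map σ
  have hX₁c : IsMulCommutative X₁ := by
    refine .of_setLike_mul_comm ?_
    rintro _ ⟨u, hu, rfl⟩ _ ⟨v, hv, rfl⟩
    rw [← map_mul, ← map_mul, show u * v = v * u from Subtype.ext (hXc u hu v hv)]
  have hX₁p : (Nat.card X₁).Coprime p :=
    hXp.coprime_dvd_left ((Subgroup.card_map_dvd _ σ).trans (Subgroup.card_comap_dvd_of_injective X
      C.subtype C.subtype_injective))
  have hX₁a : ∀ w ∈ X₁, aa * w * aa⁻¹ ∈ X₁ ∧ aa⁻¹ * w * aa ∈ X₁ := by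
    rintro _ ⟨w, hw, rfl⟩
    refine ⟨⟨⟨a, haC⟩ * w * ⟨a, haC⟩⁻¹, hAX a ha w hw, by simp [aa]⟩,
      ⟨⟨a, haC⟩⁻¹ * w * ⟨a, haC⟩, ?_, by simp [aa]⟩⟩
    have := hAX a⁻¹ (A.inv_mem ha) w hw
    rwa [inv_inv] at this
  have hfix : (fixedSub ρ A).subgroupOf U₁ =
      MonoidHom.eqLocus (aa : U₁ →* U₁) (MonoidHom.id U₁) := by
    ext u
    constructor
    · intro hu
      exact Subtype.ext (hu a ha)
    · intro hu
      have h1 : ρ a (u : U) = u := congrArg Subtype.val hu
      rw [Subgroup.mem_subgroupOf, mem_fixedSub, hAeq]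
      let St : Subgroup M :=
        { carrier := {b | ρ b (u : U) = u}
          mul_mem' := fun {b c} hb hc => by
            change ρ (b * c) (u : U) = u
            rw [map_mul, MulAut.mul_apply, hc, hb]
          one_mem' := by change ρ 1 (u : U) = u; rw [map_one, MulAut.one_apply]
          inv_mem' := fun {b} hb => by
            change ρ b⁻¹ (u : U) = u
            conv_lhs => arg 2; rw [← hb]
            rw [← MulAut.mul_apply, ← map_mul, inv_mul_cancel, map_one, MulAut.one_apply] }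
      have hle : K ⊔ Subgroup.zpowers a ≤ St :=
        sup_le (fun k hk => u.2 k hk) (Subgroup.zpowers_le.mpr h1)
      exact fun b hb => hle hb
  -- the commutator map of `a` on the fixed points of `K`
  let δ : U₁ →* U₁ :=
    { toFun := fun u => aa u * u⁻¹
      map_one' := by simp
      map_mul' := fun u v => by rw [map_mul, mul_inv, mul_mul_mul_comm] }
  have hker : δ.ker = (fixedSub ρ A).subgroupOf U₁ := by
    rw [hfix]
    ext u
    exact mul_inv_eq_one
  have hbig : p < Nat.card δ.range := by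
    by_contra hle
    push Not at hle
    have hq : ∀ u : U₁, aa (aa u * u⁻¹) = aa u * u⁻¹ := by
      intro u
      by_contra hne
      have hmem : δ u ∈ δ.range := ⟨u, rfl⟩
      have hne1 : δ u ≠ 1 := fun h => hne (by
        change aa (δ u) = δ u
        rw [h, map_one])
      have hod : orderOf (δ u) = p := orderOf_eq_prime (Subtype.ext (hU _)) hne1
      have hz : Subgroup.zpowers (δ u) = δ.range :=
        Subgroup.eq_of_le_of_card_ge (Subgroup.zpowers_le.mpr hmem)
          (by rw [Nat.card_zpowers, hod]; exact hle)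
      let A₀ := Subgroup.zpowers aa
      have hap : aa ^ p = 1 := by
        change σ ⟨a, haC⟩ ^ p = 1
        rw [← map_pow, show (⟨a, haC⟩ : C) ^ p = 1 from Subtype.ext (hA.2 a ha), map_one]
      have hA₀ : IsPGroup p A₀ := by
        rintro ⟨b, hb⟩
        obtain ⟨k, rfl⟩ := Subgroup.mem_zpowers_iff.mp hb
        refine ⟨1, Subtype.ext ?_⟩
        simp only [SubmonoidClass.coe_pow, pow_one, OneMemClass.coe_one]
        rw [← zpow_natCast, ← zpow_mul, mul_comm, zpow_mul, zpow_natCast, hap, one_zpow]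
      have hinv : ∀ b ∈ A₀, ∀ v ∈ δ.range, b v ∈ δ.range := by
        rintro b hb _ ⟨w, rfl⟩
        refine ⟨b w, ?_⟩
        obtain ⟨k, rfl⟩ := Subgroup.mem_zpowers_iff.mp hb
        change aa ((aa ^ k) w) * ((aa ^ k) w)⁻¹ = (aa ^ k) (aa w * w⁻¹)
        rw [map_mul, map_inv, ← MulAut.mul_apply, ← MulAut.mul_apply,
          ((Commute.refl aa).zpow_right k).eq]
      let _ : MulAction A₀ δ.range :=
        { smul := fun b v => ⟨(b : MulAut U₁) v, hinv b b.2 v v.2⟩
          one_smul := fun v => Subtype.ext rfl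
          mul_smul := fun b c v => Subtype.ext rfl }
      have hdvd : p ∣ Nat.card δ.range := by
        rw [← hz, Nat.card_zpowers, hod]
      obtain ⟨v, hv, hv1⟩ := hA₀.exists_fixed_point_of_prime_dvd_card_of_fixed_point δ.range hdvd
        (a := 1) (fun b => Subtype.ext (map_one (b : MulAut U₁)))
      have hv' : aa (v : U₁) = v := congrArg Subtype.val (hv ⟨aa, Subgroup.mem_zpowers aa⟩)
      have hov : orderOf (v : U₁) = p :=
        orderOf_eq_prime (Subtype.ext (hU _)) (fun h => hv1 (Subtype.ext h.symm))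
      have hzv : Subgroup.zpowers (v : U₁) = δ.range :=
        Subgroup.eq_of_le_of_card_ge (Subgroup.zpowers_le.mpr v.2)
          (by rw [Nat.card_zpowers, hov]; exact hle)
      obtain ⟨k, hk⟩ := Subgroup.mem_zpowers_iff.mp (hzv.symm ▸ hmem)
      exact hne (by
        change aa (δ u) = δ u
        rw [← hk, map_zpow, hv'])
    have hcomm := commute_of_quadratic hp2 (fun u => Subtype.ext (hU u)) aa X₁ hX₁c hX₁p
      (fun w hw => (hX₁a w hw).1) (fun w hw => (hX₁a w hw).2) hq (σ ⟨x, hxC⟩) ⟨⟨x, hxC⟩, hx, rfl⟩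
    let y : C := ⟨a, haC⟩ * ⟨x, hxC⟩ * ⟨a, haC⟩⁻¹ * ⟨x, hxC⟩⁻¹
    have hy : σ y = 1 := by
      simp only [y, map_mul, map_inv]
      rw [show σ ⟨a, haC⟩ * σ ⟨x, hxC⟩ = σ ⟨x, hxC⟩ * σ ⟨a, haC⟩ from hcomm]
      group
    have hyX : (y : M) ∈ X := X.mul_mem (hAX a ha x hx) (X.inv_mem hx)
    have hy1 : (y : M) = 1 := by
      refine hXf _ hyX (apply_eq_self_of_fixed ρ hU (B := K) ?_ ?_ (hC y y.2) fun u hu => ?_)
      · exact fun b => ⟨1, Subtype.ext (by simpa using hA.2 b (hKA b.2))⟩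
      · exact hXp.coprime_dvd_left (X.orderOf_dvd_natCard hyX)
      · exact congrArg Subtype.val (MulEquiv.congr_fun hy (⟨u, hu⟩ : U₁))
    exact hax (mul_inv_eq_iff_eq_mul.mp (mul_inv_eq_one.mp hy1))
  have hU₁ : p ^ 2 * Nat.card (fixedSub ρ A) ≤ Nat.card U₁ := by
    rw [← δ.ker.index_mul_card, Subgroup.index_ker, hker,
      Nat.card_congr (Subgroup.subgroupOfEquivOfLe (fixedSub_antitone ρ hKA)).toEquiv]
    refine Nat.mul_le_mul_right _ ?_
    have hP : IsPGroup p δ.range := fun v => ⟨1, by rw [pow_one]; exact Subtype.ext (Subtype.ext (hU _))⟩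
    obtain ⟨i, hi⟩ := IsPGroup.iff_card.mp hP
    rw [hi] at hbig ⊢
    refine Nat.pow_le_pow_right hp.out.pos ?_
    have : 1 < i := (Nat.pow_lt_pow_iff_right hp.out.one_lt).mp (by rwa [pow_one])
    omega
  calc Nat.card A ^ 2 * Nat.card (fixedSub ρ A)
      ≤ (p * Nat.card K) ^ 2 * Nat.card (fixedSub ρ A) :=
        Nat.mul_le_mul_right _ (Nat.pow_le_pow_left hAle 2)
    _ = Nat.card K ^ 2 * (p ^ 2 * Nat.card (fixedSub ρ A)) := by ring
    _ ≤ Nat.card K ^ 2 * Nat.card U₁ := Nat.mul_le_mul_left _ hU₁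
    _ ≤ Nat.card U := hind

end Offender

end Cfsg.Agent.Lib.Frobenius.QuadraticAbelian
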