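import Cfsg.Prelude.Def_Transfer
import Cfsg.Agent.Lib.Frobenius.QuadraticAbelian
import Cfsg.Agent.Lib.Transfer.PResidual
import Cfsg.Agent.Lib.Transfer.Frobenius
import Cfsg.Agent.Lib.PSolvable.HallHigman
import Cfsg.Agent.Lib.Cores.Basic
import Cfsg.Agent.Lib.PGroups.Thompson
import Cfsg.Agent.Lib.PGroups.ElemAb
import Cfsg.Agent.Lib.Balance.PLayer
import Cfsg.Agent.Lib.Coprime.Conjugacy

/-!
# The Thompson normal `p`-complement theorem, `p` odd

`hasNormalPComplement_of_thompson` : if `N_G(J(P))` and `C_G(Z(P))` have normal `p`-complements then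
so has `G`.

Reduction lemmas usable for other conjugacy functors: `exists_pCore_ne_bot`,
`hasNormalPComplement_of_quotient_pPrime`, `centralizes_of_fixes_omega`.
-/

set_option autoImplicit false
set_option linter.unusedSectionVars false

namespace Cfsg.Agent.Lib.Frobenius.PComplement

open Cfsg.Agent.Lib.Transfer.PResidual
open scoped Pointwise

universe u

variable {p : ℕ} [hp : Fact p.Prime]

section Basic

variable {G : Type*} [Group G] [Finite G]

theorem hnpc_of_map_le {H : Type*} [Group H] [Finite H] (f : H →* G) (hf : Function.Injective f)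
    {K : Subgroup H} {L : Subgroup G} (hle : K.map f ≤ L) (hL : Cfsg.HasNormalPComplement p L) :
    Cfsg.HasNormalPComplement p K := by
  refine hasNormalPComplement_of_injective
    ((f.comp K.subtype).codRestrict L fun x => hle ⟨x, x.2, rfl⟩) (fun a b h => ?_) hL
  exact Subtype.ext (hf (congrArg Subtype.val h))

theorem hnpc_of_le {A B : Subgroup G} (hle : A ≤ B) (hB : Cfsg.HasNormalPComplement p B) :
    Cfsg.HasNormalPComplement p A :=
  hnpc_of_map_le (MonoidHom.id G) (fun _ _ h => h) (by simpa using hle) hB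

theorem hnpc_of_top_le {B : Subgroup G} (hle : ⊤ ≤ B) (hB : Cfsg.HasNormalPComplement p B) :
    Cfsg.HasNormalPComplement p G :=
  (hasNormalPComplement_congr Subgroup.topEquiv).mp (hnpc_of_le hle hB)

theorem hnpc_map {G' : Type*} [Group G'] [Finite G'] (f : G →* G') {A : Subgroup G}
    {B : Subgroup G'} (hle : B ≤ A.map f) (hA : Cfsg.HasNormalPComplement p A) :
    Cfsg.HasNormalPComplement p B :=
  hnpc_of_le hle (hasNormalPComplement_of_surjective (f.subgroupMap A)
    (f.subgroupMap_surjective A) hA)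

/-- The hypothesis of Thompson's criterion at a subgroup `P`. -/
def ThompsonHyp (p : ℕ) (P : Subgroup G) : Prop :=
  Cfsg.HasNormalPComplement p (Subgroup.normalizer (Cfsg.thompsonSubgroupOf p P : Set G)) ∧
    Cfsg.HasNormalPComplement p
      (Subgroup.centralizer ((P ⊓ Subgroup.centralizer (P : Set G) : Subgroup G) : Set G))

theorem thompsonHyp_of_injective {H : Type*} [Group H] [Finite H] (f : H →* G)
    (hf : Function.Injective f) {S : Subgroup H} (h : ThompsonHyp p (S.map f)) :
    ThompsonHyp p S := by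
  constructor
  · refine hnpc_of_map_le f hf ?_ h.1
    rw [← PGroups.map_thompsonSubgroupOf f hf]
    exact Subgroup.le_normalizer_map f
  · refine hnpc_of_map_le f hf ?_ h.2
    rw [← PGroups.map_inf_centralizer_of_injective f hf]
    exact Subgroup.map_centralizer_le_centralizer_image _ f |>.trans (by
      rw [Subgroup.coe_map])

theorem thompsonHyp_conj (g : G) {P : Subgroup G} (h : ThompsonHyp p P) :
    ThompsonHyp p (P.map (MulAut.conj g).toMonoidHom) := by
  refine thompsonHyp_of_injective (MulAut.conj g⁻¹).toMonoidHom (MulAut.conj g⁻¹).injective ?_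
  rw [Subgroup.map_map,
    show (MulAut.conj g⁻¹).toMonoidHom.comp (MulAut.conj g).toMonoidHom = MonoidHom.id G from by
      ext x; simp [mul_assoc], Subgroup.map_id]
  exact h

theorem thompsonHyp_sylow {P : Sylow p G} (h : ThompsonHyp p (P : Subgroup G)) (P' : Sylow p G) :
    ThompsonHyp p (P' : Subgroup G) := by
  obtain ⟨g, rfl⟩ := MulAction.exists_smul_eq G P P'
  exact thompsonHyp_conj g h

/-- `J(P)` for a `P` mapped injectively. -/
theorem map_thompsonSubgroupOf_of_injOn {G' : Type*} [Group G'] (f : G →* G') (P : Subgroup G)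
    (hf : Function.Injective (f.comp P.subtype)) :
    (Cfsg.thompsonSubgroupOf p P).map f = Cfsg.thompsonSubgroupOf p (P.map f) := by
  have h1 : Cfsg.thompsonSubgroupOf p P =
      (Cfsg.thompsonSubgroupOf p (⊤ : Subgroup P)).map P.subtype := by
    rw [PGroups.map_thompsonSubgroupOf P.subtype P.subtype_injective, ← MonoidHom.range_eq_map,
      P.range_subtype]
  have h2 : (⊤ : Subgroup P).map (f.comp P.subtype) = P.map f := by
    rw [← Subgroup.map_map, ← MonoidHom.range_eq_map, P.range_subtype]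
  rw [h1, Subgroup.map_map, PGroups.map_thompsonSubgroupOf _ hf, h2]

theorem map_center_of_injOn {G' : Type*} [Group G'] (f : G →* G') (P : Subgroup G)
    (hf : Function.Injective (f.comp P.subtype)) :
    (P ⊓ Subgroup.centralizer (P : Set G)).map f =
      P.map f ⊓ Subgroup.centralizer ((P.map f : Subgroup G') : Set G') := by
  have h1 : P ⊓ Subgroup.centralizer (P : Set G) =
      ((⊤ : Subgroup P) ⊓ Subgroup.centralizer ((⊤ : Subgroup P) : Set P)).map P.subtype := by
    rw [PGroups.map_inf_centralizer_of_injective P.subtype P.subtype_injective,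
      ← MonoidHom.range_eq_map, P.range_subtype]
  have h2 : (⊤ : Subgroup P).map (f.comp P.subtype) = P.map f := by
    rw [← Subgroup.map_map, ← MonoidHom.range_eq_map, P.range_subtype]
  rw [h1, Subgroup.map_map, PGroups.map_inf_centralizer_of_injective _ hf, h2]

theorem thompsonSubgroupOf_ne_bot {P : Subgroup G} (hP : IsPGroup p P) (hne : P ≠ ⊥) :
    Cfsg.thompsonSubgroupOf p P ≠ ⊥ := by
  intro h
  obtain ⟨A, hA⟩ := PGroups.maxElemAbIn_nonempty p P
  have hAbot : A = ⊥ := le_bot_iff.mp (h ▸ PGroups.le_thompsonSubgroupOf hA)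
  have : Nontrivial P := (Subgroup.nontrivial_iff_ne_bot P).mpr hne
  obtain ⟨k, hk⟩ := IsPGroup.iff_card.mp hP
  have h1 := Finite.one_lt_card (α := P)
  obtain ⟨x, hx⟩ := exists_prime_orderOf_dvd_card' p (G := P) (by
    rw [hk] at h1 ⊢
    exact dvd_pow_self p (fun h0 => by simp [h0] at h1))
  have hle := hA.2.2 (Subgroup.zpowers (x : G)) (Subgroup.zpowers_le.mpr x.2)
    (PGroups.elemAb_zpowers (by rw [← hx, ← Subgroup.orderOf_coe]; exact pow_orderOf_eq_one _))
  rw [hAbot, Subgroup.card_bot, Nat.card_zpowers, Subgroup.orderOf_coe, hx] at hle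
  exact absurd hp.out.one_lt (not_lt.mpr hle)

theorem inf_centralizer_ne_bot {P : Subgroup G} (hP : IsPGroup p P) (hne : P ≠ ⊥) :
    P ⊓ Subgroup.centralizer (P : Set G) ≠ ⊥ := by
  have : Nontrivial P := (Subgroup.nontrivial_iff_ne_bot P).mpr hne
  have := hP.center_nontrivial
  obtain ⟨⟨z, hz⟩, hz1⟩ := exists_ne (1 : Subgroup.center P)
  intro h
  have hm : (z : G) ∈ P ⊓ Subgroup.centralizer (P : Set G) :=
    ⟨z.2, Subgroup.mem_centralizer_iff.mpr fun w hw =>
      congrArg Subtype.val (Subgroup.mem_center_iff.mp hz ⟨w, hw⟩)⟩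
  rw [h, Subgroup.mem_bot] at hm
  exact hz1 (Subtype.ext (Subtype.ext hm))

/-- A normal `p'`-subgroup whose quotient has a normal `p`-complement. -/
theorem hasNormalPComplement_of_quotient_pPrime {M : Subgroup G} [M.Normal]
    (hM : ¬ p ∣ Nat.card M) (h : Cfsg.HasNormalPComplement p (G ⧸ M)) :
    Cfsg.HasNormalPComplement p G := by
  let K := (pResidual p (G ⧸ M)).comap (QuotientGroup.mk' M)
  refine hasNormalPComplement_of_normal (N := K) ?_ ?_
  · rw [PSolvable.card_comap_mk', hp.out.dvd_mul]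
    push Not
    exact ⟨hM, hasNormalPComplement_iff_not_dvd.mp h⟩
  · let f : G →* (G ⧸ M) ⧸ pResidual p (G ⧸ M) :=
      (QuotientGroup.mk' _).comp (QuotientGroup.mk' M)
    have hk : f.ker = K := by
      rw [← MonoidHom.comap_bot, ← Subgroup.comap_comap, MonoidHom.comap_bot, QuotientGroup.ker_mk']
    exact IsPGroup.of_equiv isPGroup_quotient
      ((QuotientGroup.quotientMulEquivOfEq hk.symm).trans (QuotientGroup.quotientKerEquivOfSurjective
        f ((QuotientGroup.mk'_surjective _).comp (QuotientGroup.mk'_surjective _)))).symm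

/-- An element of order prime to `p` centralising `Ω₁` of an abelian `p`-subgroup it normalises
centralises that subgroup. -/
theorem centralizes_of_fixes_omega {V : Subgroup G} (hV : IsPGroup p V)
    (hVc : ∀ x ∈ V, ∀ y ∈ V, x * y = y * x) {g : G} (hg : (orderOf g).Coprime p)
    (hgV : ∀ x ∈ V, g * x * g⁻¹ ∈ V)
    (hΩ : ∀ x ∈ V, x ^ p = 1 → g * x * g⁻¹ = x) : ∀ x ∈ V, g * x * g⁻¹ = x := by
  suffices ∀ k : ℕ, ∀ x ∈ V, x ^ p ^ k = 1 → g * x * g⁻¹ = x by
    intro x hx
    obtain ⟨k, hk⟩ := hV ⟨x, hx⟩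
    exact this k x hx (congrArg Subtype.val hk)
  intro k
  induction k with
  | zero => intro x _ h; rw [pow_zero, pow_one] at h; subst h; simp
  | succ k ih =>
      intro x hx hxk
      let c := g * x * g⁻¹ * x⁻¹
      have hcV : c ∈ V := V.mul_mem (hgV x hx) (V.inv_mem hx)
      have hcp : c ^ p = 1 := by
        have h1 : g * x ^ p * g⁻¹ = x ^ p :=
          ih _ (pow_mem hx p) (by rw [← pow_mul, ← pow_succ']; exact hxk)
        have hcomm : Commute (g * x * g⁻¹) x⁻¹ := hVc _ (hgV x hx) _ (V.inv_mem hx)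
        rw [hcomm.mul_pow, conj_pow, h1, inv_pow, mul_inv_cancel]
      have hcg := hΩ c hcV hcp
      have hstep : ∀ n : ℕ, g ^ n * x * (g ^ n)⁻¹ = c ^ n * x := by
        intro n
        induction n with
        | zero => simp
        | succ n ihn =>
            calc g ^ (n + 1) * x * (g ^ (n + 1))⁻¹ = g * (g ^ n * x * (g ^ n)⁻¹) * g⁻¹ := by
                  rw [pow_succ']; group
              _ = g * c ^ n * g⁻¹ * (g * x * g⁻¹) := by rw [ihn]; group
              _ = c ^ n * (c * x) := by
                  rw [← conj_pow, hcg]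
                  simp [c, mul_assoc]
              _ = c ^ (n + 1) * x := by rw [← mul_assoc, ← pow_succ]
      have h2 := hstep (orderOf g)
      rw [pow_orderOf_eq_one, one_mul, inv_one, mul_one] at h2
      have hc1 : c = 1 := orderOf_eq_one_iff.mp (Nat.eq_one_of_dvd_coprimes hg
        (orderOf_dvd_of_pow_eq_one (mul_eq_right.mp h2.symm)) (orderOf_dvd_of_pow_eq_one hcp))
      exact mul_inv_eq_one.mp hc1

/-- The local step: a group with no normal `p`-complement all of whose relevant proper subgroups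
have one has a nontrivial normal `p`-subgroup. -/
theorem exists_pCore_ne_bot (hG : ¬ Cfsg.HasNormalPComplement p G) (P₀ : Sylow p G)
    (hP₀ : ThompsonHyp p (P₀ : Subgroup G))
    (hind : ∀ H : Subgroup G, H ≠ ⊤ → ∀ S : Sylow p H, ThompsonHyp p (S : Subgroup H) →
      Cfsg.HasNormalPComplement p H) :
    Cfsg.pCore p G ≠ ⊥ := by
  classical
  let bad : Set (Subgroup G) := {U | IsPGroup p U ∧ U ≠ ⊥ ∧
    ¬ Cfsg.HasNormalPComplement p (Subgroup.normalizer (U : Set G))}
  have hne : bad.Nonempty := by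
    by_contra h
    apply hG
    refine Transfer.Frobenius.hasNormalPComplement_of_forall_centralizes fun Q hQ hQ1 g hg hgp => ?_
    have hN : Cfsg.HasNormalPComplement p (Subgroup.normalizer (Q : Set G)) :=
      by_contra fun hc => h ⟨Q, hQ, hQ1, hc⟩
    have h1 := Transfer.Frobenius.mem_centralizer_of_hasNormalPComplement hN
      (Q := Q.subgroupOf (Subgroup.normalizer (Q : Set G))) hQ.comap_subtype (g := ⟨g, hg⟩)
      (Subgroup.mem_normalizer_iff.mpr fun x => Subgroup.mem_normalizer_iff.mp hg x)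
      (by rwa [Subgroup.orderOf_mk])
    exact Subgroup.mem_centralizer_iff.mpr fun x hx => congrArg Subtype.val
      (Subgroup.mem_centralizer_iff.mp h1 ⟨x, Subgroup.le_normalizer hx⟩ hx)
  obtain ⟨U, ⟨hU, hU1, hUbad⟩, hmax⟩ := Set.exists_max_image bad
    (fun U => (Nat.card (Subgroup.normalizer (U : Set G))).factorization p) (Set.toFinite _) hne
  let H := Subgroup.normalizer (U : Set G)
  by_cases hH : H = ⊤
  · have : U.Normal := Subgroup.normalizer_eq_top_iff.mp hH
    exact fun h => hU1 (le_bot_iff.mp (h ▸ Cores.le_pCore hU))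
  exfalso
  obtain ⟨S⟩ : Nonempty (Sylow p H) := inferInstance
  let S' : Subgroup G := (S : Subgroup H).map H.subtype
  have hS' : IsPGroup p S' := S.2.map _
  obtain ⟨P, hSP⟩ := hS'.exists_le_sylow
  have hP : ThompsonHyp p (P : Subgroup G) := thompsonHyp_sylow hP₀ P
  have hS'H : S' ≤ H := Subgroup.map_subtype_le _
  have hUS : U ≤ S' := by
    have : (U.comap H.subtype).Normal := Subgroup.normal_in_normalizer
    intro x hx
    exact ⟨⟨x, Subgroup.le_normalizer hx⟩,
      hU.comap_subtype.le_sylow_of_normal S (hx : (⟨x, Subgroup.le_normalizer hx⟩ : H) ∈ U.subgroupOf H),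
      rfl⟩
  have hmaxS : ∀ z ∈ (P : Subgroup G), z ∈ H → z ∈ S' := by
    intro z hz hzH
    have hle : (S : Subgroup H) ≤ (P : Subgroup G).subgroupOf H := fun x hx => hSP ⟨x, hx, rfl⟩
    exact ⟨⟨z, hzH⟩, (S.3 P.2.comap_subtype hle).le hz, rfl⟩
  have hZ : (P : Subgroup G) ⊓ Subgroup.centralizer ((P : Subgroup G) : Set G) ≤
      S' ⊓ Subgroup.centralizer (S' : Set G) := by
    rintro z ⟨hzP, hzC⟩
    have hzS : z ∈ Subgroup.centralizer (S' : Set G) := Subgroup.centralizer_le hSP hzC
    refine ⟨hmaxS z hzP ?_, hzS⟩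
    refine Subgroup.mem_normalizer_iff.mpr fun x => ?_
    have hzi : z⁻¹ ∈ Subgroup.centralizer (S' : Set G) := Subgroup.inv_mem _ hzS
    constructor
    · intro hx
      rwa [← Subgroup.mem_centralizer_iff.mp hzS x (hUS hx), mul_inv_cancel_right]
    · intro hx
      have h2 : z * x * z⁻¹ * z⁻¹ = z⁻¹ * (z * x * z⁻¹) :=
        Subgroup.mem_centralizer_iff.mp hzi _ (hUS hx)
      have : x = z * x * z⁻¹ := by
        calc x = z⁻¹ * (z * x * z⁻¹) * z := by group
          _ = z * x * z⁻¹ * z⁻¹ * z := by rw [h2]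
          _ = _ := by group
      rwa [this]
  have hC : Cfsg.HasNormalPComplement p
      (Subgroup.centralizer ((S' ⊓ Subgroup.centralizer (S' : Set G) : Subgroup G) : Set G)) :=
    hnpc_of_le (Subgroup.centralizer_le hZ) hP.2
  apply hUbad
  refine hind H hH S (thompsonHyp_of_injective H.subtype H.subtype_injective ⟨?_, hC⟩)
  change Cfsg.HasNormalPComplement p (Subgroup.normalizer (Cfsg.thompsonSubgroupOf p S' : Set G))
  by_cases hSeq : S' = (P : Subgroup G)
  · rw [hSeq]; exact hP.1
  by_contra hbadJ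
  have hS1 : S' ≠ ⊥ := fun h => hU1 (le_bot_iff.mp (h ▸ hUS))
  have hJp : IsPGroup p (Cfsg.thompsonSubgroupOf p S') :=
    hS'.to_le (PGroups.thompsonSubgroupOf_le p S')
  have hle := hmax (Cfsg.thompsonSubgroupOf p S')
    ⟨hJp, thompsonSubgroupOf_ne_bot hS' hS1, hbadJ⟩
  -- but the normalizer of `S'` in `P` is larger than `S'`
  let T := (P : Subgroup G) ⊓ Subgroup.normalizer (S' : Set G)
  have hT : IsPGroup p T := P.2.to_le inf_le_left
  have hlt : S' < T := by
    refine lt_of_le_of_ne (le_inf hSP Subgroup.le_normalizer) fun he => ?_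
    have hnc := Group.normalizerCondition_of_isNilpotent (h := P.2.isNilpotent)
    have hne : S'.subgroupOf (P : Subgroup G) ≠ ⊤ := fun h =>
      hSeq (le_antisymm hSP (Subgroup.subgroupOf_eq_top.mp h))
    obtain ⟨x, hx, hxn⟩ := SetLike.exists_of_lt (hnc _ (lt_top_iff_ne_top.mpr hne))
    refine hxn ?_
    change (x : G) ∈ S'
    have hxT : (x : G) ∈ T := by
      refine ⟨x.2, Subgroup.mem_normalizer_iff.mpr fun y => ?_⟩
      constructor
      · intro hy
        exact (Subgroup.mem_normalizer_iff.mp hx ⟨y, hSP hy⟩).mp hy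
      · intro hy
        have hyP : y ∈ (P : Subgroup G) := by
          have := (P : Subgroup G).mul_mem ((P : Subgroup G).mul_mem
            ((P : Subgroup G).inv_mem x.2) (hSP hy)) x.2
          simpa [mul_assoc] using this
        exact (Subgroup.mem_normalizer_iff.mp hx ⟨y, hyP⟩).mpr hy
    rwa [← he] at hxT
  have hTJ : T ≤ Subgroup.normalizer (Cfsg.thompsonSubgroupOf p S' : Set G) :=
    inf_le_right.trans (PGroups.normalizer_le_normalizer_thompson S')
  obtain ⟨k, hk⟩ := IsPGroup.iff_card.mp hT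
  obtain ⟨j, hj⟩ := IsPGroup.iff_card.mp hS'
  have hjk : j < k := by
    have : Nat.card S' < Nat.card T := lt_of_le_of_ne (Subgroup.card_le_of_le hlt.le)
      fun h => hlt.ne (Subgroup.eq_of_le_of_card_ge hlt.le h.ge)
    rw [hj, hk] at this
    exact (Nat.pow_lt_pow_iff_right hp.out.one_lt).mp this
  have hk' := (hp.out.pow_dvd_iff_le_factorization Nat.card_pos.ne').mp
    (hk ▸ Subgroup.card_dvd_of_le hTJ)
  have hj' : j = (Nat.card H).factorization p := by
    have h1 := S.card_eq_multiplicity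
    have h2 : Nat.card S' = Nat.card (S : Subgroup H) := Subgroup.card_subtype _ _
    rw [hj, h1] at h2
    exact Nat.pow_right_injective hp.out.two_le h2
  have hle' : (Nat.card (Subgroup.normalizer (Cfsg.thompsonSubgroupOf p S' : Set G))).factorization p
      ≤ (Nat.card H).factorization p := hle
  omega

end Basic

/-- The inductive step: everything below `G` is done. -/
theorem step {G : Type*} [Group G] [Finite G] (hp2 : p ≠ 2) (P : Sylow p G)
    (hP : ThompsonHyp p (P : Subgroup G))
    (hsub : ∀ H : Subgroup G, H ≠ ⊤ → ∀ S : Sylow p H, ThompsonHyp p (S : Subgroup H) →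
      Cfsg.HasNormalPComplement p H)
    (hquot : ∀ (N : Subgroup G) [N.Normal], N ≠ ⊥ → ∀ S : Sylow p (G ⧸ N),
      ThompsonHyp p (S : Subgroup (G ⧸ N)) → Cfsg.HasNormalPComplement p (G ⧸ N)) :
    Cfsg.HasNormalPComplement p G := by
  classical
  by_contra hG
  -- no normal `p'`-subgroup
  have hO' : Cfsg.pPrimeCore p G = ⊥ := by
    by_contra hne
    apply hG
    let M := Cfsg.pPrimeCore p G
    let f := QuotientGroup.mk' M
    have hM : ¬ p ∣ Nat.card M := Cores.not_dvd_card_pPrimeCore p
    refine hasNormalPComplement_of_quotient_pPrime hM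
      (hquot M hne (P.mapSurjective (QuotientGroup.mk'_surjective M)) ?_)
    have hinj : Function.Injective (f.comp (P : Subgroup G).subtype) := by
      rw [← MonoidHom.ker_eq_bot_iff, Subgroup.eq_bot_iff_forall]
      intro x hx
      exact Subtype.ext (Subgroup.disjoint_def.mp (disjoint_of_not_dvd hM P.2)
        ((QuotientGroup.eq_one_iff (x : G)).mp hx) x.2)
    have hkerM : ¬ p ∣ Nat.card f.ker := by rwa [QuotientGroup.ker_mk']
    have hJp : IsPGroup p (Cfsg.thompsonSubgroupOf p (P : Subgroup G)) :=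
      P.2.to_le (PGroups.thompsonSubgroupOf_le p _)
    rw [Sylow.coe_mapSurjective]
    constructor
    · refine hnpc_map f (le_of_eq ?_) hP.1
      rw [Balance.map_normalizer_eq (QuotientGroup.mk'_surjective M) hkerM hJp,
        map_thompsonSubgroupOf_of_injOn f _ hinj]
    · refine hnpc_map f ?_ hP.2
      rw [← map_center_of_injOn f _ hinj]
      exact PSolvable.centralizer_map_le_map_centralizer M _ (Cores.pPrimeCore_coprime p)
        (P.2.to_le inf_le_left)
  let Q := Cfsg.pCore p G
  have hQ1 : Q ≠ ⊥ := exists_pCore_ne_bot hG P hP hsub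
  have hQp : IsPGroup p Q := Cores.pCore_isPGroup p
  have hQP : Q ≤ (P : Subgroup G) := Cores.pCore_le_sylow P
  have hJtop : ∀ Q' : Subgroup G, Q'.Normal →
      Cfsg.thompsonSubgroupOf p Q' = Cfsg.thompsonSubgroupOf p (P : Subgroup G) → False := by
    intro Q' hQ' hJ
    refine hG (hnpc_of_top_le ?_ hP.1)
    rw [← hJ]
    refine le_trans ?_ (PGroups.normalizer_le_normalizer_thompson Q')
    rw [Subgroup.normalizer_eq_top_iff.mpr hQ']
  have hQne : Q ≠ (P : Subgroup G) := fun h => hJtop Q inferInstance (by rw [h])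
  let f := QuotientGroup.mk' Q
  have hfs : Function.Surjective f := QuotientGroup.mk'_surjective Q
  let Pb : Sylow p (G ⧸ Q) := P.mapSurjective hfs
  have hPbne : (Pb : Subgroup (G ⧸ Q)) ≠ ⊥ := by
    rw [Sylow.coe_mapSurjective, Ne, Subgroup.map_eq_bot_iff, QuotientGroup.ker_mk']
    exact fun h => hQne (le_antisymm hQP h)
  have hcore : Cfsg.pCore p (G ⧸ Q) = ⊥ := Cores.pCore_quotient_pCore p
  -- proper overgroups of `P`
  have hover : ∀ L : Subgroup G, (P : Subgroup G) ≤ L → L ≠ ⊤ → Cfsg.HasNormalPComplement p L := by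
    intro L hPL hL
    refine hsub L hL (P.subtype hPL) (thompsonHyp_of_injective L.subtype L.subtype_injective ?_)
    rw [Sylow.coe_subtype, Subgroup.subgroupOf_map_subtype, inf_eq_left.mpr hPL]
    exact hP
  have hPbK : ∀ K : Subgroup (G ⧸ Q), (Pb : Subgroup (G ⧸ Q)) ≤ K → K ≠ ⊤ →
      Cfsg.HasNormalPComplement p K := by
    intro K hK hK1
    refine hnpc_map f (A := K.comap f) (by rw [Subgroup.map_comap_eq_self_of_surjective hfs])
      (hover _ ?_ ?_)
    · exact fun x hx => hK (Subgroup.mem_map_of_mem f hx)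
    · intro h
      apply hK1
      rw [← Subgroup.map_comap_eq_self_of_surjective hfs K, h, Subgroup.map_top_of_surjective f hfs]
  have hGb : Cfsg.HasNormalPComplement p (G ⧸ Q) := by
    refine hquot Q hQ1 Pb ⟨hPbK _ ?_ ?_, hPbK _ ?_ ?_⟩
    · exact Subgroup.le_normalizer.trans (PGroups.normalizer_le_normalizer_thompson _)
    · intro h
      have := Subgroup.normalizer_eq_top_iff.mp h
      refine thompsonSubgroupOf_ne_bot Pb.2 hPbne (le_bot_iff.mp (hcore ▸ Cores.le_pCore ?_))
      exact Pb.2.to_le (PGroups.thompsonSubgroupOf_le p _)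
    · intro x hx
      exact Subgroup.mem_centralizer_iff.mpr fun z hz =>
        (Subgroup.mem_centralizer_iff.mp hz.2 x hx).symm
    · intro h
      have hn : ((Pb : Subgroup (G ⧸ Q)) ⊓
          Subgroup.centralizer ((Pb : Subgroup (G ⧸ Q)) : Set (G ⧸ Q))).Normal := by
        refine ⟨fun z hz g => ?_⟩
        have : g ∈ Subgroup.centralizer (((Pb : Subgroup (G ⧸ Q)) ⊓
            Subgroup.centralizer ((Pb : Subgroup (G ⧸ Q)) : Set (G ⧸ Q)) : Subgroup (G ⧸ Q)) :
              Set (G ⧸ Q)) := h.ge (Subgroup.mem_top g)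
        rwa [← Subgroup.mem_centralizer_iff.mp this z hz, mul_inv_cancel_right]
      exact inf_centralizer_ne_bot Pb.2 hPbne
        (le_bot_iff.mp (hcore ▸ Cores.le_pCore (Pb.2.to_le inf_le_left)))
  let K := pResidual p (G ⧸ Q)
  have hKp : ¬ p ∣ Nat.card K := hasNormalPComplement_iff_not_dvd.mp hGb
  have hsol : Cfsg.IsPSolvable p G :=
    PSolvable.isPSolvable_of_extension Q (PSolvable.isPSolvable_of_isPGroup hQp)
      (PSolvable.isPSolvable_of_extension K
        (PSolvable.isPSolvable_of_coprime (hp.out.coprime_iff_not_dvd.mpr hKp).symm)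
        (PSolvable.isPSolvable_of_isPGroup isPGroup_quotient))
  have hCQ : Subgroup.centralizer (Q : Set G) ≤ Q := PSolvable.centralizer_pCore_le hsol hO'
  have hKPtop : K ⊔ (Pb : Subgroup (G ⧸ Q)) = ⊤ := sup_sylow_eq_top Pb
  -- invariant subgroups of `K` are trivial or everything
  have hY : ∀ Y : Subgroup (G ⧸ Q), Y ≤ K →
      (Pb : Subgroup (G ⧸ Q)) ≤ Subgroup.normalizer (Y : Set (G ⧸ Q)) → Y = ⊥ ∨ Y = K := by
    intro Y hYK hPY
    have hYp : ¬ p ∣ Nat.card Y := fun h => hKp (h.trans (Subgroup.card_dvd_of_le hYK))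
    by_cases hL : (Pb : Subgroup (G ⧸ Q)) ⊔ Y = ⊤
    · right
      refine Subgroup.eq_of_le_of_card_ge hYK (le_of_eq ?_)
      have h1 := Lib.Coprime.card_sup_of_disjoint hPY (disjoint_of_not_dvd hYp Pb.2).symm
      rw [hL, Subgroup.card_top, ← (isComplement'_pResidual hGb Pb).card_mul_card, mul_comm] at h1
      exact Nat.eq_of_mul_eq_mul_left Nat.card_pos h1
    left
    let L := ((Pb : Subgroup (G ⧸ Q)) ⊔ Y).comap f
    have hPL : (P : Subgroup G) ≤ L := fun x hx =>
      le_sup_left (b := Y) (Subgroup.mem_map_of_mem f hx : f x ∈ (Pb : Subgroup (G ⧸ Q)))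
    have hLne : L ≠ ⊤ := by
      intro h
      apply hL
      rw [← Subgroup.map_comap_eq_self_of_surjective hfs ((Pb : Subgroup (G ⧸ Q)) ⊔ Y)]
      change L.map f = ⊤
      rw [h, Subgroup.map_top_of_surjective f hfs]
    have hLc := hover L hPL hLne
    -- its complement centralises `Q`
    have hres : ∀ x : G, x ∈ L → (orderOf x).Coprime p → x = 1 := by
      intro x hx hxp
      have hxC : x ∈ Subgroup.centralizer (Q : Set G) := by
        have h1 := Transfer.Frobenius.mem_centralizer_of_hasNormalPComplement hLc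
          (Q := Q.subgroupOf L) hQp.comap_subtype (g := ⟨x, hx⟩)
          (Subgroup.mem_normalizer_iff.mpr fun y => by
            refine ⟨fun hy => Subgroup.Normal.conj_mem (inferInstance : Q.Normal) (y : G) hy x, fun hy => ?_⟩
            have h2 : x⁻¹ * (x * y * x⁻¹) * x⁻¹⁻¹ ∈ Q :=
              Subgroup.Normal.conj_mem (inferInstance : Q.Normal) _ hy x⁻¹
            simpa [mul_assoc, Subgroup.mem_subgroupOf] using h2)
          (by rwa [Subgroup.orderOf_mk])
        refine Subgroup.mem_centralizer_iff.mpr fun y hy => congrArg Subtype.val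
          (Subgroup.mem_centralizer_iff.mp h1 ⟨y, hPL (hQP hy)⟩ hy)
      exact congrArg Subtype.val
        (eq_one_of_pGroup_of_coprime hQp (a := (⟨x, hCQ hxC⟩ : Q)) (by rwa [Subgroup.orderOf_mk]))
    have hLp : IsPGroup p L := by
      rw [IsPGroup.iff_orderOf]
      intro x
      obtain ⟨a, b, ha, hb, hab, -, ⟨k, hk⟩, hbp⟩ :=
        exists_pPart_mul_pPrimePart (p := p) x (isOfFinOrder_of_finite x)
      have hb1 : (b : G) = 1 := hres b b.2 (by rwa [Subgroup.orderOf_coe])
      rw [show b = 1 from Subtype.ext hb1, mul_one] at hab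
      subst hab
      obtain ⟨i, -, hi⟩ := (Nat.dvd_prime_pow hp.out).mp (orderOf_dvd_of_pow_eq_one hk)
      exact ⟨i, hi⟩
    have hYP : IsPGroup p Y := by
      refine (hLp.map f).to_le ?_
      change Y ≤ L.map f
      rw [Subgroup.map_comap_eq_self_of_surjective hfs]
      exact le_sup_right
    obtain ⟨k, hk⟩ := IsPGroup.iff_card.mp hYP
    rw [← Subgroup.card_eq_one, hk]
    rcases Nat.eq_zero_or_pos k with h0 | h0
    · rw [h0, pow_zero]
    · exact absurd (hk ▸ dvd_pow_self p h0.ne') hYp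
  have hKne : K ≠ ⊥ := by
    intro h
    rw [h, bot_sup_eq] at hKPtop
    have hpg : IsPGroup p (G ⧸ Q) := by
      rw [← Cores.pCore_eq_top_iff]
      exact top_le_iff.mp (hKPtop ▸ Cores.le_pCore (hN := by rw [hKPtop]; infer_instance) Pb.2)
    rw [← Cores.pCore_eq_top_iff, hcore] at hpg
    exact hPbne (le_bot_iff.mp (hpg ▸ le_top))
  -- `K` is a `q`-group
  obtain ⟨q, hq, hqd⟩ := Nat.exists_prime_and_dvd (fun h => hKne (Subgroup.card_eq_one.mp h))
  have := Fact.mk hq
  obtain ⟨W⟩ : Nonempty (Sylow q K) := inferInstance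
  let W' : Subgroup (G ⧸ Q) := (W : Subgroup K).map K.subtype
  have hWN : Subgroup.normalizer (W' : Set (G ⧸ Q)) ⊔ K = ⊤ := Sylow.normalizer_sup_eq_top W
  have hidx : ¬ p ∣ (Subgroup.normalizer (W' : Set (G ⧸ Q))).index := by
    intro h
    apply hKp
    refine h.trans ⟨Nat.card (K ⊓ Subgroup.normalizer (W' : Set (G ⧸ Q)) : Subgroup (G ⧸ Q)), ?_⟩
    let N := Subgroup.normalizer (W' : Set (G ⧸ Q))
    have h1 := Subgroup.relIndex_mul_relIndex (⊥ : Subgroup (G ⧸ Q)) (K ⊓ N) N bot_le inf_le_right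
    rw [Subgroup.relIndex_bot_left, Subgroup.relIndex_bot_left, Subgroup.inf_relIndex_right] at h1
    have h2 : K.relIndex N = K.index := by
      rw [← Subgroup.relIndex_top_right K, ← hWN, Subgroup.relIndex_sup_right]
    have h3 := N.index_mul_card
    have h4 := K.index_mul_card
    rw [h2] at h1
    rw [← h1] at h3
    refine Nat.eq_of_mul_eq_mul_left (Nat.pos_of_ne_zero (K.index_ne_zero_of_finite)) ?_
    rw [h4, ← h3]
    ring
  obtain ⟨S⟩ : Nonempty (Sylow p (Subgroup.normalizer (W' : Set (G ⧸ Q)))) := inferInstance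
  have hSp : IsPGroup p ((S : Subgroup _).map (Subgroup.normalizer (W' : Set (G ⧸ Q))).subtype) :=
    S.2.map _
  have hSidx : ¬ p ∣ ((S : Subgroup _).map
      (Subgroup.normalizer (W' : Set (G ⧸ Q))).subtype).index := by
    rw [Subgroup.index_map_subtype, hp.out.dvd_mul]
    exact not_or_intro S.not_dvd_index hidx
  obtain ⟨g, hg⟩ := MulAction.exists_smul_eq (G ⧸ Q) (hSp.toSylow hSidx) Pb
  let W'' : Subgroup (G ⧸ Q) := W'.map (MulAut.conj g).toMonoidHom
  have hW'' : W'' ≤ K := by
    rintro _ ⟨w, hw, rfl⟩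
    exact Subgroup.Normal.conj_mem inferInstance w (Subgroup.map_subtype_le _ hw) g
  have hPW : (Pb : Subgroup (G ⧸ Q)) ≤ Subgroup.normalizer (W'' : Set (G ⧸ Q)) := by
    rw [← hg]
    exact (Subgroup.map_mono (Subgroup.map_subtype_le _)).trans (Subgroup.le_normalizer_map _)
  have hWq : IsPGroup q W'' := (W.2.map _).map _
  have hKq : IsPGroup q K := by
    rcases hY W'' hW'' hPW with h | h
    · exfalso
      have hc : Nat.card W'' = Nat.card (W : Subgroup K) := by
        rw [Subgroup.card_map_of_injective (MulAut.conj g).injective, Subgroup.card_subtype]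
      rw [h, Subgroup.card_bot] at hc
      exact W.not_dvd_index (by
        have := (W : Subgroup K).index_mul_card
        rw [← hc, mul_one] at this
        rw [this]; exact hqd)
    · exact h ▸ hWq
  have hKc : ∀ x ∈ K, ∀ y ∈ K, x * y = y * x := by
    have := hKq.isNilpotent
    have : Group.IsSolvable K := inferInstance
    rcases hY ⁅K, K⁆ (Subgroup.commutator_le_self K)
        (by rw [Subgroup.normalizer_eq_top_iff.mpr inferInstance]; exact le_top) with h | h
    · exact fun x hx y hy => commutatorElement_eq_one_iff_mul_comm.mp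
        (Subgroup.mem_bot.mp (h ▸ Subgroup.commutator_mem_commutator hx hy))
    · exfalso
      have : Group.IsPerfect K := Subgroup.isPerfect_iff.mpr h
      have : Nontrivial K := (Subgroup.nontrivial_iff_ne_bot K).mpr hKne
      exact Group.IsPerfect.not_isSolvable K inferInstance
  have hPbfaith : ∀ a ∈ (Pb : Subgroup (G ⧸ Q)), (∀ x ∈ K, Commute a x) → a = 1 := by
    intro a ha hax
    let D := (Pb : Subgroup (G ⧸ Q)) ⊓ Subgroup.centralizer (K : Set (G ⧸ Q))
    have hD : D.Normal := by
      rw [← Subgroup.normalizer_eq_top_iff, eq_top_iff, ← hKPtop]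
      refine sup_le (fun k hk => Subgroup.mem_normalizer_iff.mpr fun d => ?_) ?_
      · constructor
        · intro hd
          have : k * d * k⁻¹ = d := by
            rw [Subgroup.mem_centralizer_iff.mp hd.2 k hk, mul_inv_cancel_right]
          rwa [this]
        · intro hd
          have h1 := Subgroup.mem_centralizer_iff.mp hd.2 k hk
          have : d = k * d * k⁻¹ := by
            calc d = k⁻¹ * (k * d * k⁻¹ * k) := by group
              _ = k⁻¹ * (k * (k * d * k⁻¹)) := by rw [h1]
              _ = _ := by group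
          rwa [this]
      · refine le_trans (le_inf Subgroup.le_normalizer ?_) Subgroup.inf_normalizer_le_normalizer_inf
        rw [Subgroup.normalizer_eq_top_iff.mpr inferInstance]
        exact le_top
    have hm : a ∈ D := ⟨ha, Subgroup.mem_centralizer_iff.mpr fun x hx => (hax x hx).eq.symm⟩
    exact Subgroup.mem_bot.mp (hcore ▸ Cores.le_pCore (hN := hD) (Pb.2.to_le inf_le_left) hm)
  -- `Ω₁` of the centre of `Q`
  have hZc : ∀ x ∈ Subgroup.centralizer (Q : Set G), ∀ y ∈ Subgroup.centralizer (Q : Set G),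
      x * y = y * x := fun x hx y hy => Subgroup.mem_centralizer_iff.mp hy x (hCQ hx)
  let Ω : Subgroup G :=
    { carrier := {x | x ∈ Subgroup.centralizer (Q : Set G) ∧ x ^ p = 1}
      mul_mem' := fun {x y} hx hy => ⟨mul_mem hx.1 hy.1, by
        rw [Commute.mul_pow (hZc x hx.1 y hy.1), hx.2, hy.2, one_mul]⟩
      one_mem' := ⟨one_mem _, one_pow p⟩
      inv_mem' := fun {x} hx => ⟨inv_mem hx.1, by rw [inv_pow, hx.2, inv_one]⟩ }
  have hΩn : Ω.Normal := ⟨fun x hx g => ⟨Subgroup.Normal.conj_mem inferInstance x hx.1 g,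
    by rw [conj_pow, hx.2]; group⟩⟩
  have hΩc : IsMulCommutative Ω := ⟨⟨fun x y => Subtype.ext (hZc x x.2.1 y y.2.1)⟩⟩
  have hQker : Q ≤ Subgroup.centralizer (Ω : Set G) := fun x hx =>
    Subgroup.mem_centralizer_iff.mpr fun w hw => (Subgroup.mem_centralizer_iff.mp hw.1 x hx).symm
  -- `K` acts faithfully on it
  have hKf : (Subgroup.centralizer (Ω : Set G)).map f ⊓ K = ⊥ := by
    rcases hY ((Subgroup.centralizer (Ω : Set G)).map f ⊓ K) inf_le_right (by
      have : ((Subgroup.centralizer (Ω : Set G)).map f).Normal :=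
        (inferInstance : (Subgroup.centralizer (Ω : Set G)).Normal).map f hfs
      have h2 : ((Subgroup.centralizer (Ω : Set G)).map f ⊓ K).Normal := inferInstance
      rw [Subgroup.normalizer_eq_top_iff.mpr h2]
      exact le_top) with h | h
    · exact h
    exfalso
    apply hG
    refine hnpc_of_top_le ?_ hP.2
    rw [← sup_sylow_eq_top (p := p) P]
    refine sup_le (pResidual_le_iff.mpr fun g hg => Subgroup.mem_centralizer_iff.mpr ?_) ?_
    · rintro z ⟨hzP, hzC⟩
      have hgΩ : g ∈ Subgroup.centralizer (Ω : Set G) := by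
        have hgK : f g ∈ K := mem_pResidual (hg.coprime_dvd_left (orderOf_map_dvd f g))
        rw [← h] at hgK
        obtain ⟨c, hc, hcg⟩ := hgK.1
        have : c⁻¹ * g ∈ Q := (QuotientGroup.eq).mp hcg
        simpa using mul_mem hc (hQker this)
      have hfix := centralizes_of_fixes_omega (V := Subgroup.centralizer (Q : Set G))
        (hQp.to_le hCQ) hZc hg (fun x hx => Subgroup.Normal.conj_mem inferInstance x hx g)
        (fun x hx hxp => by
          rw [← Subgroup.mem_centralizer_iff.mp hgΩ x ⟨hx, hxp⟩, mul_inv_cancel_right]) z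
        (Subgroup.centralizer_le hQP hzC)
      exact (mul_inv_eq_iff_eq_mul.mp hfix).symm
    · intro x hx
      exact Subgroup.mem_centralizer_iff.mpr fun z hz =>
        (Subgroup.mem_centralizer_iff.mp hz.2 x hx).symm
  let ρ : G ⧸ Q →* MulAut Ω := QuotientGroup.lift Q (MulAut.conjNormal (H := Ω)) (fun x hx =>
    MulEquiv.ext fun w => Subtype.ext (by
      rw [MulAut.conjNormal_apply, MulAut.one_apply,
        ← Subgroup.mem_centralizer_iff.mp (hQker hx) w w.2, mul_inv_cancel_right]))
  -- an elementary abelian subgroup of largest order outside `Q`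
  obtain ⟨A, hA, hAQ⟩ : ∃ A ∈ PGroups.maxElemAbIn p (P : Subgroup G), ¬ A ≤ Q := by
    by_contra hne
    push Not at hne
    refine hJtop Q inferInstance (PGroups.thompsonSubgroupOf_eq_of_le hQP ?_)
    rw [PGroups.thompsonSubgroupOf_eq]
    exact sSup_le hne
  let Ab := A.map f
  have hAbP : Ab ≤ (Pb : Subgroup (G ⧸ Q)) := Subgroup.map_mono hA.1
  let _ : CommGroup Ω := { Ω.toGroup with mul_comm := hΩc.is_comm.comm }
  have hbound := QuadraticAbelian.sq_card_mul_card_fixed_le ρ hp2
    (fun u => Subtype.ext u.2.2) hKc (hp.out.coprime_iff_not_dvd.mpr hKp).symm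
    (fun x hx hfx => by
      obtain ⟨g, rfl⟩ := hfs x
      have hgΩ : g ∈ Subgroup.centralizer (Ω : Set G) := Subgroup.mem_centralizer_iff.mpr
        fun w hw => by
          have h1 : g * w * g⁻¹ = w := congrArg Subtype.val (hfx ⟨w, hw⟩)
          exact (mul_inv_eq_iff_eq_mul.mp h1).symm
      exact Subgroup.mem_bot.mp (hKf ▸ ⟨Subgroup.mem_map_of_mem f hgΩ, hx⟩))
    Ab (PGroups.elemAb_map f hA.2.1)
    (fun a _ x hx => Subgroup.Normal.conj_mem inferInstance x hx a)
    (fun a ha => hPbfaith a (hAbP ha))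
  have hAb : Nat.card Ab * Nat.card (A ⊓ Q : Subgroup G) = Nat.card A := by
    have h1 := Subgroup.relIndex_mul_relIndex (⊥ : Subgroup G) (A ⊓ Q) A bot_le inf_le_left
    rw [Subgroup.relIndex_bot_left, Subgroup.relIndex_bot_left, Subgroup.inf_relIndex_left] at h1
    rw [← h1, mul_comm]
    congr 1
    have h2 := Subgroup.relIndex_ker (K := A) f
    rw [QuotientGroup.ker_mk'] at h2
    exact h2.symm
  have hfix : Nat.card (A ⊓ Ω : Subgroup G) ≤ Nat.card (QuadraticAbelian.fixedSub ρ Ab) := by
    refine Nat.card_le_card_of_injective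
      (fun w => ⟨⟨w.1, w.2.2⟩, ?_⟩) (fun u v h => Subtype.ext ?_)
    · rintro _ ⟨a, ha, rfl⟩
      refine Subtype.ext ?_
      change a * (w : G) * a⁻¹ = w
      rw [PGroups.elemAb_comm hA.2.1 ha w.2.1, mul_inv_cancel_right]
    · exact congrArg (fun t : QuadraticAbelian.fixedSub ρ Ab => ((t : Ω) : G)) h
  let B := (A ⊓ Q) ⊔ Ω
  have hB : Cfsg.IsElementaryAbelian p B := by
    refine PGroups.elemAb_sup (PGroups.elemAb_mono hA.2.1 inf_le_left) ⟨hΩc, fun w hw => hw.2⟩ ?_
    exact fun a ha w hw => Subgroup.mem_centralizer_iff.mp hw.1 a ha.2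
  have hBA : Nat.card B ≤ Nat.card A :=
    hA.2.2 B (sup_le (inf_le_left.trans hA.1) fun w hw => hQP (hCQ hw.1)) hB
  have hBcard : Nat.card B * Nat.card ((A ⊓ Q) ⊓ Ω : Subgroup G) =
      Nat.card (A ⊓ Q : Subgroup G) * Nat.card Ω := by
    have h1 := Subgroup.relIndex_mul_relIndex (⊥ : Subgroup G) Ω B bot_le le_sup_right
    have h2 := Subgroup.relIndex_mul_relIndex (⊥ : Subgroup G) ((A ⊓ Q) ⊓ Ω) (A ⊓ Q) bot_le
      inf_le_left
    rw [Subgroup.relIndex_bot_left, Subgroup.relIndex_bot_left] at h1 h2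
    rw [Subgroup.relIndex_sup_right] at h1
    rw [Subgroup.inf_relIndex_left] at h2
    rw [← h1, ← h2]; ring
  have hΩA : Nat.card ((A ⊓ Q) ⊓ Ω : Subgroup G) ≤ Nat.card (A ⊓ Ω : Subgroup G) :=
    Subgroup.card_le_of_le (inf_le_inf_right _ inf_le_left)
  have hAb2 : 2 ≤ Nat.card Ab := by
    have : Ab ≠ ⊥ := by
      rw [Ne, Subgroup.map_eq_bot_iff, QuotientGroup.ker_mk']; exact hAQ
    exact (Subgroup.one_lt_card_iff_ne_bot Ab).mpr this
  have key : Nat.card Ab * (Nat.card Ab * (Nat.card (A ⊓ Ω : Subgroup G) *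
      Nat.card (A ⊓ Q : Subgroup G))) ≤
      1 * (Nat.card Ab * (Nat.card (A ⊓ Ω : Subgroup G) * Nat.card (A ⊓ Q : Subgroup G))) := by
    calc Nat.card Ab * (Nat.card Ab * (Nat.card (A ⊓ Ω : Subgroup G) *
          Nat.card (A ⊓ Q : Subgroup G)))
        = (Nat.card Ab ^ 2 * Nat.card (A ⊓ Ω : Subgroup G)) * Nat.card (A ⊓ Q : Subgroup G) := by
          ring
      _ ≤ Nat.card Ω * Nat.card (A ⊓ Q : Subgroup G) :=
          Nat.mul_le_mul_right _ ((Nat.mul_le_mul_left _ hfix).trans hbound)
      _ = Nat.card B * Nat.card ((A ⊓ Q) ⊓ Ω : Subgroup G) := by rw [hBcard, mul_comm]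
      _ ≤ Nat.card A * Nat.card (A ⊓ Ω : Subgroup G) := Nat.mul_le_mul hBA hΩA
      _ = _ := by rw [← hAb]; ring
  have hpos : 0 < Nat.card Ab * (Nat.card (A ⊓ Ω : Subgroup G) *
      Nat.card (A ⊓ Q : Subgroup G)) :=
    Nat.mul_pos (by omega) (Nat.mul_pos Nat.card_pos Nat.card_pos)
  have := Nat.le_of_mul_le_mul_right key hpos
  omega

/-- **Thompson's normal `p`-complement theorem**, `p` odd. -/
theorem hasNormalPComplement_of_thompson (hp2 : p ≠ 2) :
    ∀ {G : Type u} [Group G] [Finite G] (P : Sylow p G), ThompsonHyp p (P : Subgroup G) →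
      Cfsg.HasNormalPComplement p G := by
  suffices ∀ (n : ℕ) (G : Type u) [Group G] [Finite G], Nat.card G ≤ n → ∀ P : Sylow p G,
      ThompsonHyp p (P : Subgroup G) → Cfsg.HasNormalPComplement p G from
    fun {G} _ _ P hP => this _ G le_rfl P hP
  intro n
  induction n with
  | zero => intro G _ _ h; exact absurd h (not_le.mpr Nat.card_pos)
  | succ n ih =>
    intro G _ _ hn P hP
    refine step hp2 P hP (fun H hH => ih H ?_) (fun N _ hN => ih (G ⧸ N) ?_)
    · have hlt : Nat.card H < Nat.card G := lt_of_le_of_ne (Subgroup.card_le_card_group H)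
        fun h => hH (Subgroup.eq_top_of_card_eq H h)
      omega
    · have h1 := Subgroup.card_eq_card_quotient_mul_card_subgroup N
      have h2 : 2 ≤ Nat.card N := (Subgroup.one_lt_card_iff_ne_bot N).mpr hN
      have h3 : Nat.card (G ⧸ N) * 2 ≤ Nat.card G := h1 ▸ Nat.mul_le_mul_left _ h2
      have : 0 < Nat.card (G ⧸ N) := Nat.card_pos
      omega

end Cfsg.Agent.Lib.Frobenius.PComplement
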