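import Mathlib.GroupTheory.Nilpotent
import Mathlib.Dynamics.PeriodicPts.Defs
import Cfsg.Agent.Lib.Frobenius.FixedPointFree
import Cfsg.Agent.Lib.Frobenius.PComplement
import Cfsg.Agent.Lib.Transfer.Frobenius

/-!
# Thompson's theorem on fixed-point-free automorphisms of prime order

`isNilpotent_of_fixedPointFree` : a finite group with a fixed-point-free automorphism `φ` with
`φ^[r] = id`, `r` prime, is nilpotent.
-/

set_option autoImplicit false
set_option linter.unusedSectionVars false

namespace Cfsg.Agent.Lib.Frobenius.Nilpotent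

open scoped IsMulCommutative

universe u

section Restrict

variable {G : Type*} [Group G] [Finite G]

/-- An automorphism on an invariant subgroup. -/
noncomputable def restrictAut (φ : G ≃* G) (H : Subgroup G) (h : ∀ x ∈ H, φ x ∈ H) : H ≃* H :=
  MulEquiv.ofBijective (((φ : G →* G).comp H.subtype).codRestrict H fun x => h x x.2)
    (Finite.injective_iff_bijective.mp fun _ _ e =>
      Subtype.ext (φ.injective (congrArg Subtype.val e)))

theorem restrictAut_apply (φ : G ≃* G) (H : Subgroup G) (h : ∀ x ∈ H, φ x ∈ H) (x : H) :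
    ((restrictAut φ H h x : H) : G) = φ x := rfl

theorem map_eq_self {φ : G ≃* G} {H : Subgroup G} (h : ∀ x ∈ H, φ x ∈ H) :
    H.map (φ : G →* G) = H :=
  Subgroup.eq_of_le_of_card_ge (Subgroup.map_le_iff_le_comap.mpr h)
    (Subgroup.card_map_of_injective (f := (φ : G →* G)) φ.injective).ge

theorem invariant_of_map_eq {φ : G ≃* G} {H : Subgroup G} (h : H.map (φ : G →* G) = H) :
    ∀ x ∈ H, φ x ∈ H := fun x hx => h ▸ ⟨x, hx, rfl⟩

theorem invariant_of_characteristic (φ : G ≃* G) (H : Subgroup G) [hc : H.Characteristic] :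
    ∀ x ∈ H, φ x ∈ H := fun _ hx => Subgroup.characteristic_iff_le_comap.mp hc φ hx

end Restrict

section Centralise

variable {G : Type*} [Group G] [Finite G] (φ : G ≃* G)
  (hφ : MonoidHom.FixedPointFree (φ : G →* G)) {r : ℕ} (hr : r.Prime)
  (hper : ∀ x, (⇑φ)^[r] x = x)

include hφ hr hper

/-- An invariant subgroup centralises an invariant abelian subgroup of coprime order which it
normalises. -/
theorem centralize {Q V : Subgroup G} [IsMulCommutative V] (hQ : ∀ x ∈ Q, φ x ∈ Q)
    (hV : ∀ x ∈ V, φ x ∈ V) (hn : ∀ x ∈ Q, ∀ v ∈ V, x * v * x⁻¹ ∈ V)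
    (hco : (Nat.card Q).Coprime (Nat.card V)) : ∀ x ∈ Q, ∀ v ∈ V, x * v * x⁻¹ = v := by
  classical
  have := Fintype.ofFinite Q
  obtain ⟨m, rfl⟩ : ∃ m, r = m + 1 := ⟨r - 1, (Nat.succ_pred_eq_of_pos hr.pos).symm⟩
  let φV : V →* V := (restrictAut φ V hV).toMonoidHom
  let φQ : Q →* Q := (restrictAut φ Q hQ).toMonoidHom
  let a : Q →* MulAut V :=
    { toFun := fun x =>
        { toFun := fun v => ⟨x * v * x⁻¹, hn x x.2 v v.2⟩
          invFun := fun v => ⟨(x : G)⁻¹ * v * (x : G)⁻¹⁻¹, hn _ (inv_mem x.2) v v.2⟩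
          left_inv := fun v => Subtype.ext (by simp [mul_assoc])
          right_inv := fun v => Subtype.ext (by simp [mul_assoc])
          map_mul' := fun v w => Subtype.ext (by simp [mul_assoc]) }
      map_one' := MulEquiv.ext fun v => Subtype.ext (by simp)
      map_mul' := fun x y => MulEquiv.ext fun v => Subtype.ext (by simp [mul_assoc]) }
  have ha : ∀ x v, φV (a x v) = a (φQ x) (φV v) := fun x v => Subtype.ext (by
    change φ ((x : G) * v * (x : G)⁻¹) = φ x * φ v * (φ (x : G))⁻¹
    rw [map_mul, map_mul, map_inv])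
  have haj : ∀ (j : ℕ) x v, (⇑φV)^[j] (a x v) = a ((⇑φQ)^[j] x) ((⇑φV)^[j] v) := by
    intro j
    induction j with
    | zero => intro x v; rfl
    | succ j ih => intro x v; rw [Function.iterate_succ_apply', ih, ha,
        Function.iterate_succ_apply', Function.iterate_succ_apply']
  have hcoe : ∀ (j : ℕ) (x : Q), (((⇑φQ)^[j] x : Q) : G) = (⇑φ)^[j] x := by
    intro j
    induction j with
    | zero => intro x; rfl
    | succ j ih => intro x; rw [Function.iterate_succ_apply', Function.iterate_succ_apply', ← ih]; rfl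
  have hcoeV : ∀ (j : ℕ) (x : V), (((⇑φV)^[j] x : V) : G) = (⇑φ)^[j] x := by
    intro j
    induction j with
    | zero => intro x; rfl
    | succ j ih => intro x; rw [Function.iterate_succ_apply', Function.iterate_succ_apply', ← ih]; rfl
  -- the product over an orbit of `φ` is trivial
  have horb : ∀ u : V, ∏ j ∈ Finset.range (m + 1), (⇑φV)^[j] u = 1 := by
    intro u
    have h1 : φV (∏ j ∈ Finset.range (m + 1), (⇑φV)^[j] u) =
        ∏ j ∈ Finset.range (m + 1), (⇑φV)^[j] u := by
      rw [map_prod]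
      simp only [← Function.iterate_succ_apply' (⇑φV)]
      rw [Finset.prod_range_succ, Finset.prod_range_succ']
      congr 1
      exact Subtype.ext ((hcoeV _ u).trans (hper u))
    exact Subtype.ext (hφ _ (congrArg Subtype.val h1))
  let w : V → V := fun u => ∏ x : Q, a x u
  have hw1 : ∀ u, w (φV u) = φV (w u) := by
    intro u
    change ∏ x : Q, a x (φV u) = φV (∏ x : Q, a x u)
    rw [map_prod]
    exact (Fintype.prod_equiv (restrictAut φ Q hQ).toEquiv _ _ fun x => ha x u).symm
  have hwj : ∀ (j : ℕ) u, w ((⇑φV)^[j] u) = (⇑φV)^[j] (w u) := by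
    intro j
    induction j with
    | zero => intro u; rfl
    | succ j ih => intro u; rw [Function.iterate_succ_apply', hw1, ih, Function.iterate_succ_apply']
  have hwfix : ∀ x u, a x (w u) = w u := by
    intro x u
    change a x (∏ y : Q, a y u) = _
    rw [map_prod]
    refine Fintype.prod_equiv (Equiv.mulLeft x) _ _ fun y => ?_
    rw [← MulAut.mul_apply, ← map_mul]
    rfl
  have hsum : ∀ v : V, v ^ Nat.card Q = w v := by
    intro v
    let T : Q → ℕ → V := fun y j => a (y * ((⇑φQ)^[j] y⁻¹)) ((⇑φV)^[j] v)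
    have hT1 : ∀ y, ∏ j ∈ Finset.range (m + 1), T y j = 1 := by
      intro y
      have h1 : ∀ j, T y j = a y ((⇑φV)^[j] (a y⁻¹ v)) := fun j => by
        rw [haj, ← MulAut.mul_apply, ← map_mul]
      rw [Finset.prod_congr rfl fun j _ => h1 j, ← map_prod, horb, map_one]
    have hT0 : ∏ y : Q, T y 0 = v ^ Nat.card Q := by
      simp only [T, Function.iterate_zero, id_eq, mul_inv_cancel, map_one, MulAut.one_apply,
        Finset.prod_const, Finset.card_univ, Nat.card_eq_fintype_card]
    have hTj : ∀ j ∈ Finset.range m, ∏ y : Q, T y (j + 1) = (⇑φV)^[j + 1] (w v) := by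
      intro j hj
      rw [← hwj]
      change _ = ∏ x : Q, a x ((⇑φV)^[j + 1] v)
      have hinj : Function.Injective fun y : Q => y * ((⇑φQ)^[j + 1] y⁻¹) := by
        intro y z h
        have hfix : (⇑φQ)^[j + 1] (z⁻¹ * y) = z⁻¹ * y := by
          have h' : y * ((⇑φQ)^[j + 1] y⁻¹) = z * ((⇑φQ)^[j + 1] z⁻¹) := h
          rw [iterate_map_inv, iterate_map_inv] at h'
          rw [iterate_map_mul, iterate_map_inv]
          calc ((⇑φQ)^[j + 1] z)⁻¹ * (⇑φQ)^[j + 1] y
              = z⁻¹ * (z * ((⇑φQ)^[j + 1] z)⁻¹) * (⇑φQ)^[j + 1] y := by group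
            _ = _ := by rw [← h']; group
        have hp1 : Function.IsPeriodicPt (⇑φ) (j + 1) ((z⁻¹ * y : Q) : G) := by
          change (⇑φ)^[j + 1] _ = _
          rw [← hcoe, hfix]
        have hp2 := hp1.gcd (show Function.IsPeriodicPt (⇑φ) (m + 1) _ from hper _)
        have hg1 : Nat.gcd (j + 1) (m + 1) = 1 :=
          (hr.coprime_iff_not_dvd.mpr fun hd => by
            have := Nat.le_of_dvd j.succ_pos hd
            have := Finset.mem_range.mp hj
            omega).symm
        rw [hg1] at hp2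
        exact (inv_mul_eq_one.mp (Subtype.ext (hφ _ hp2) : z⁻¹ * y = 1)).symm
      exact Fintype.prod_equiv (Equiv.ofBijective _ (Finite.injective_iff_bijective.mp hinj)) _ _
        fun y => rfl
    have htot : (∏ j ∈ Finset.range m, (⇑φV)^[j + 1] (w v)) * v ^ Nat.card Q = 1 := by
      rw [← hT0, ← Finset.prod_congr rfl hTj, ← Finset.prod_range_succ'
        (fun j => ∏ y : Q, T y j), Finset.prod_comm]
      exact Finset.prod_eq_one fun y _ => hT1 y
    have h2 := horb (w v)
    rw [Finset.prod_range_succ'] at h2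
    exact mul_left_cancel (htot.trans h2.symm)
  intro x hx v hv
  have h1 : a ⟨x, hx⟩ (⟨v, hv⟩ : V) ^ Nat.card Q = (⟨v, hv⟩ : V) ^ Nat.card Q := by
    rw [← map_pow, hsum, hwfix]
  exact congrArg Subtype.val ((powCoprime hco.symm).injective h1 : a ⟨x, hx⟩ (⟨v, hv⟩ : V) = _)

end Centralise

section Step

variable {G : Type*} [Group G] [Finite G]

theorem fixedPointFree_restrict {φ : G ≃* G} (hφ : MonoidHom.FixedPointFree (φ : G →* G))
    (H : Subgroup G) (h : ∀ x ∈ H, φ x ∈ H) :
    MonoidHom.FixedPointFree ((restrictAut φ H h : H ≃* H) : H →* H) :=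
  fun _ e => Subtype.ext (hφ _ (congrArg Subtype.val e))

theorem iterate_restrict {φ : G ≃* G} {r : ℕ} (hper : ∀ x, (⇑φ)^[r] x = x) (H : Subgroup G)
    (h : ∀ x ∈ H, φ x ∈ H) (x : H) : (⇑(restrictAut φ H h))^[r] x = x := by
  have : ∀ j, (((⇑(restrictAut φ H h))^[j] x : H) : G) = (⇑φ)^[j] x := by
    intro j
    induction j with
    | zero => rfl
    | succ j ih => rw [Function.iterate_succ_apply', Function.iterate_succ_apply', ← ih]; rfl
  exact Subtype.ext ((this r).trans (hper x))

/-- If `G ⧸ V` is nilpotent, `V` an invariant normal abelian `p`-group, then `G` is nilpotent. -/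
theorem isNilpotent_of_quotient {φ : G ≃* G} (hφ : MonoidHom.FixedPointFree (φ : G →* G)) {r : ℕ}
    (hr : r.Prime) (hper : ∀ x, (⇑φ)^[r] x = x) {p : ℕ} [Fact p.Prime] {V : Subgroup G} [V.Normal]
    [IsMulCommutative V] (hVp : IsPGroup p V) (hV : ∀ x ∈ V, φ x ∈ V)
    (hQ : Group.IsNilpotent (G ⧸ V)) : Group.IsNilpotent G := by
  refine ((Group.isNilpotent_of_finite_tfae (G := G)).out 0 3).mpr ?_
  intro q hq P
  obtain ⟨P₀, hP₀⟩ := exists_sylow_map_eq φ hφ q
  suffices hn : (P₀ : Subgroup G).Normal by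
    have := Sylow.unique_of_normal P₀ hn
    rwa [Subsingleton.elim P P₀]
  have hmapn : ((P₀ : Subgroup G).map (QuotientGroup.mk' V)).Normal := by
    have h1 := ((Group.isNilpotent_of_finite_tfae (G := G ⧸ V)).out 0 3 rfl rfl).mp hQ q hq
      (P₀.mapSurjective (QuotientGroup.mk'_surjective V))
    rwa [Sylow.coe_mapSurjective] at h1
  have hcn : ((P₀ : Subgroup G) ⊔ V).Normal := by
    have h1 := Subgroup.comap_map_eq (QuotientGroup.mk' V) (P₀ : Subgroup G)
    rw [QuotientGroup.ker_mk'] at h1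
    rw [← h1]
    exact hmapn.comap _
  by_cases hqp : q = p
  · subst hqp
    have hle : V ≤ (P₀ : Subgroup G) := hVp.le_sylow_of_normal P₀
    rwa [sup_eq_left.mpr hle] at hcn
  have hco : (Nat.card P₀).Coprime (Nat.card V) :=
    IsPGroup.coprime_card_of_ne q p hqp _ _ P₀.2 hVp
  have hcent := centralize φ hφ hr hper (invariant_of_map_eq hP₀) hV
    (fun x _ v hv => Subgroup.Normal.conj_mem inferInstance v hv x) hco
  refine ⟨fun n hn g => ?_⟩
  have hm : g * n * g⁻¹ ∈ (P₀ : Subgroup G) ⊔ V :=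
    hcn.conj_mem n (Subgroup.mem_sup_left hn) g
  obtain ⟨a, ha, v, hv, he⟩ := Subgroup.mem_sup_of_normal_right.mp hm
  obtain ⟨k, hk⟩ := P₀.2 ⟨n, hn⟩
  have hk' : n ^ q ^ k = 1 := congrArg Subtype.val hk
  have hav : Commute a v := (mul_inv_eq_iff_eq_mul.mp (hcent a ha v hv))
  have hpow : a ^ q ^ k * v ^ q ^ k = 1 := by
    rw [← hav.mul_pow, he, conj_pow, hk', mul_one, mul_inv_cancel]
  have hv1 : v ^ q ^ k = 1 := by
    have h1 : v ^ q ^ k ∈ (P₀ : Subgroup G) ⊓ V :=
      ⟨eq_inv_of_mul_eq_one_right hpow ▸ Subgroup.inv_mem _ (Subgroup.pow_mem _ ha _),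
        Subgroup.pow_mem _ hv _⟩
    rwa [Subgroup.inf_eq_bot_of_coprime hco, Subgroup.mem_bot] at h1
  have hv2 : v = 1 := by
    obtain ⟨l, hl⟩ := hVp ⟨v, hv⟩
    have hl' : v ^ p ^ l = 1 := congrArg Subtype.val hl
    exact orderOf_eq_one_iff.mp (Nat.eq_one_of_dvd_coprimes
      (Nat.Coprime.pow k l ((Nat.coprime_primes hq.out Fact.out).mpr hqp))
      (orderOf_dvd_of_pow_eq_one hv1) (orderOf_dvd_of_pow_eq_one hl'))
  rw [← he, hv2, mul_one]
  exact ha

end Step

theorem nontrivial_center {G : Type*} [Group G] [Nontrivial G] (h : Group.IsNilpotent G) :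
    Nontrivial (Subgroup.center G) := by
  obtain ⟨n, hn⟩ := h.nilpotent
  rw [Subgroup.nontrivial_iff_ne_bot]
  intro hc
  have key : ∀ i, Subgroup.upperCentralSeries G i = ⊥ := by
    intro i
    induction i with
    | zero => exact Subgroup.upperCentralSeries_zero G
    | succ i ih =>
      rw [Subgroup.eq_bot_iff_forall]
      intro x hx
      refine Subgroup.mem_bot.mp (hc ▸ Subgroup.mem_center_iff.mpr fun g => ?_)
      have h1 := Subgroup.mem_upperCentralSeries_succ_iff.mp hx g
      rw [ih, Subgroup.mem_bot, commutatorElement_eq_one_iff_mul_comm] at h1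
      exact h1.symm
  exact top_ne_bot (hn ▸ key n)

/-- **Thompson.** -/
theorem isNilpotent_of_fixedPointFree {r : ℕ} (hr : r.Prime) :
    ∀ {G : Type u} [Group G] [Finite G] (φ : G ≃* G), MonoidHom.FixedPointFree (φ : G →* G) →
      (∀ x, (⇑φ)^[r] x = x) → Group.IsNilpotent G := by
  suffices ∀ (n : ℕ) (G : Type u) [Group G] [Finite G], Nat.card G ≤ n → ∀ φ : G ≃* G,
      MonoidHom.FixedPointFree (φ : G →* G) → (∀ x, (⇑φ)^[r] x = x) → Group.IsNilpotent G from
    fun {G} _ _ φ h1 h2 => this _ G le_rfl φ h1 h2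
  intro n
  induction n with
  | zero => intro G _ _ h; exact absurd h (not_le.mpr Nat.card_pos)
  | succ n ih =>
  intro G _ _ hn φ hφ hper
  classical
  have hsub : ∀ (H : Subgroup G), (∀ x ∈ H, φ x ∈ H) → H ≠ ⊤ → Group.IsNilpotent H := by
    intro H hH hne
    refine ih H ?_ _ (fixedPointFree_restrict hφ H hH) (iterate_restrict hper H hH)
    have : Nat.card H < Nat.card G := lt_of_le_of_ne (Subgroup.card_le_card_group H)
      fun h => hne (Subgroup.eq_top_of_card_eq H h)
    omega
  have hquot : ∀ (N : Subgroup G) [N.Normal], (∀ x ∈ N, φ x ∈ N) → N ≠ ⊥ →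
      Group.IsNilpotent (G ⧸ N) := by
    intro N _ hN hne
    let ψ : G ⧸ N ≃* G ⧸ N := QuotientGroup.congr N N φ (map_eq_self hN)
    refine ih (G ⧸ N) ?_ ψ ?_ ?_
    · have h1 := Subgroup.card_eq_card_quotient_mul_card_subgroup N
      have h2 : 2 ≤ Nat.card N := (Subgroup.one_lt_card_iff_ne_bot N).mpr hne
      have h3 : Nat.card (G ⧸ N) * 2 ≤ Nat.card G := h1 ▸ Nat.mul_le_mul_left _ h2
      have : 0 < Nat.card (G ⧸ N) := Nat.card_pos
      omega
    · intro y hy
      induction y using QuotientGroup.induction_on with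
      | H g =>
        exact (QuotientGroup.eq_one_iff g).mpr
          (mem_of_commutatorMap_mem φ hφ hN (QuotientGroup.eq.mp hy))
    · intro y
      induction y using QuotientGroup.induction_on with
      | H g =>
        have : ∀ j, (⇑ψ)^[j] (g : G ⧸ N) = (((⇑φ)^[j] g : G) : G ⧸ N) := by
          intro j
          induction j with
          | zero => rfl
          | succ j ihj => rw [Function.iterate_succ_apply', ihj, Function.iterate_succ_apply']; rfl
        rw [this, hper]
  -- it is enough to have a nontrivial invariant normal nilpotent subgroup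
  have hmain : ∀ (N : Subgroup G) [N.Normal], Group.IsNilpotent N → (∀ x ∈ N, φ x ∈ N) → N ≠ ⊥ →
      Group.IsNilpotent G := by
    intro N _ hNn hN hne
    have : Nontrivial N := (Subgroup.nontrivial_iff_ne_bot N).mpr hne
    let Z : Subgroup G := N ⊓ Subgroup.centralizer (N : Set G)
    have hZ : ∀ x ∈ Z, φ x ∈ Z := fun x hx => ⟨hN x hx.1, Subgroup.mem_centralizer_iff.mpr
      fun y hy => by
        obtain ⟨w, hw, rfl⟩ : y ∈ N.map (φ : G →* G) := by rw [map_eq_self hN]; exact hy
        change φ w * φ x = φ x * φ w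
        rw [← map_mul, ← map_mul, Subgroup.mem_centralizer_iff.mp hx.2 w hw]⟩
    have hZc : ∀ x ∈ Z, ∀ y ∈ Z, x * y = y * x :=
      fun x hx y hy => Subgroup.mem_centralizer_iff.mp hy.2 x hx.1
    obtain ⟨c, hc, hc1⟩ : ∃ c ∈ Z, c ≠ 1 := by
      have : Nontrivial (Subgroup.center N) := nontrivial_center hNn
      obtain ⟨⟨c, hc⟩, hc1⟩ := exists_ne (1 : Subgroup.center N)
      exact ⟨(c : G), ⟨c.2, Subgroup.mem_centralizer_iff.mpr fun y hy =>
        congrArg Subtype.val (Subgroup.mem_center_iff.mp hc ⟨y, hy⟩)⟩,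
        fun h => hc1 (Subtype.ext (Subtype.ext h))⟩
    obtain ⟨p, hp, hpd⟩ := Nat.exists_prime_and_dvd (fun h => hc1 (orderOf_eq_one_iff.mp h))
    have := Fact.mk hp
    let V : Subgroup G :=
      { carrier := {x | x ∈ Z ∧ x ^ p = 1}
        mul_mem' := fun {x y} hx hy => ⟨mul_mem hx.1 hy.1, by
          rw [Commute.mul_pow (hZc x hx.1 y hy.1), hx.2, hy.2, one_mul]⟩
        one_mem' := ⟨one_mem _, one_pow p⟩
        inv_mem' := fun {x} hx => ⟨inv_mem hx.1, by rw [inv_pow, hx.2, inv_one]⟩ }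
    have hVn : V.Normal := ⟨fun x hx g => ⟨Subgroup.Normal.conj_mem inferInstance x hx.1 g,
      by rw [conj_pow, hx.2, mul_one, mul_inv_cancel]⟩⟩
    have hVc : IsMulCommutative V := ⟨⟨fun x y => Subtype.ext (hZc x x.2.1 y y.2.1)⟩⟩
    have hVi : ∀ x ∈ V, φ x ∈ V := fun x hx => ⟨hZ x hx.1, by rw [← map_pow, hx.2, map_one]⟩
    have hVne : V ≠ ⊥ := by
      intro h
      have hm : c ^ (orderOf c / p) ∈ V := ⟨pow_mem hc _, by
        rw [← pow_mul, Nat.div_mul_cancel hpd, pow_orderOf_eq_one]⟩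
      rw [h, Subgroup.mem_bot] at hm
      have hle := Nat.le_of_dvd (Nat.div_pos (Nat.le_of_dvd (orderOf_pos c) hpd) hp.pos)
        (orderOf_dvd_of_pow_eq_one hm)
      exact absurd hle (not_le.mpr (Nat.div_lt_self (orderOf_pos c) hp.one_lt))
    exact isNilpotent_of_quotient hφ hr hper
      (fun x => ⟨1, Subtype.ext (by simpa using x.2.2)⟩) hVi (hquot V hVi hVne)
  by_cases h2 : IsPGroup 2 G
  · exact h2.isNilpotent
  obtain ⟨q, hq, hqd, hq2⟩ : ∃ q, q.Prime ∧ q ∣ Nat.card G ∧ q ≠ 2 := by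
    by_contra h
    push Not at h
    exact h2 (IsPGroup.of_card (n := (Nat.card G).primeFactorsList.length)
      (Nat.eq_prime_pow_of_unique_prime_dvd Nat.card_pos.ne' fun {d} hd hdd => h d hd hdd))
  have := Fact.mk hq
  obtain ⟨P, hP⟩ := exists_sylow_map_eq φ hφ q
  have hPi := invariant_of_map_eq hP
  have hPne : (P : Subgroup G) ≠ ⊥ := by
    intro h
    have h1 := P.dvd_card_of_dvd_card hqd
    rw [h, Subgroup.card_bot] at h1
    exact hq.not_dvd_one h1
  let J : Subgroup G := Cfsg.thompsonSubgroupOf q (P : Subgroup G)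
  let ZP : Subgroup G := (P : Subgroup G) ⊓ Subgroup.centralizer ((P : Subgroup G) : Set G)
  have hJm : J.map (φ : G →* G) = J := by
    change (Cfsg.thompsonSubgroupOf q (P : Subgroup G)).map _ = _
    rw [PGroups.map_thompsonSubgroupOf _ φ.injective, hP]
  have hZm : ZP.map (φ : G →* G) = ZP := by
    change ((P : Subgroup G) ⊓ Subgroup.centralizer _).map _ = _
    rw [PGroups.map_inf_centralizer_of_injective _ φ.injective, hP]
  have hJp : IsPGroup q J := P.2.to_le (PGroups.thompsonSubgroupOf_le q _)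
  have hZp : IsPGroup q ZP := P.2.to_le inf_le_left
  by_cases hN : Subgroup.normalizer (J : Set G) = ⊤
  · have : J.Normal := Subgroup.normalizer_eq_top_iff.mp hN
    exact hmain J hJp.isNilpotent (invariant_of_map_eq hJm)
      (PComplement.thompsonSubgroupOf_ne_bot P.2 hPne)
  by_cases hC : Subgroup.centralizer (ZP : Set G) = ⊤
  · have : ZP.Normal := ⟨fun x hx g => by
      have h1 : x * g = g * x :=
        Subgroup.mem_centralizer_iff.mp (hC ▸ Subgroup.mem_top g) x hx
      rwa [← h1, mul_inv_cancel_right]⟩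
    exact hmain ZP hZp.isNilpotent (invariant_of_map_eq hZm)
      (PComplement.inf_centralizer_ne_bot P.2 hPne)
  have hNi : ∀ x ∈ Subgroup.normalizer (J : Set G), φ x ∈ Subgroup.normalizer (J : Set G) := by
    intro x hx
    refine Subgroup.mem_normalizer_iff.mpr fun y => ?_
    obtain ⟨w, rfl⟩ := φ.surjective y
    have hmem : ∀ t, φ t ∈ J ↔ t ∈ J := fun t => by
      conv_lhs => rw [← hJm]
      exact Subgroup.mem_map_iff_mem (f := (φ : G →* G)) φ.injective
    rw [← map_inv φ x, ← map_mul, ← map_mul, hmem, hmem]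
    exact Subgroup.mem_normalizer_iff.mp hx w
  have hCi : ∀ x ∈ Subgroup.centralizer (ZP : Set G), φ x ∈ Subgroup.centralizer (ZP : Set G) := by
    intro x hx
    refine Subgroup.mem_centralizer_iff.mpr fun y hy => ?_
    obtain ⟨w, hw, rfl⟩ : y ∈ ZP.map (φ : G →* G) := by rw [hZm]; exact hy
    change φ w * φ x = φ x * φ w
    rw [← map_mul, ← map_mul, Subgroup.mem_centralizer_iff.mp hx w hw]
  have hcompl : Cfsg.HasNormalPComplement q G := by
    have hn1 := hsub _ hNi hN
    have hn2 := hsub _ hCi hC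
    exact PComplement.hasNormalPComplement_of_thompson hq2 P
      ⟨Transfer.Frobenius.hasNormalPComplement_of_isNilpotent,
        Transfer.Frobenius.hasNormalPComplement_of_isNilpotent⟩
  let K : Subgroup G := Cfsg.pResidual q G
  by_cases hK : K = ⊥
  · exact (Transfer.PResidual.pResidual_eq_bot_iff.mp hK).isNilpotent
  have hKtop : K ≠ ⊤ := by
    intro h
    have h1 := Transfer.PResidual.hasNormalPComplement_iff_not_dvd.mp hcompl
    rw [show Cfsg.pResidual q G = ⊤ from h, Subgroup.card_top] at h1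
    exact h1 hqd
  exact hmain K (hsub K (invariant_of_characteristic φ K) hKtop)
    (invariant_of_characteristic φ K) hK

theorem isNilpotent_of_orderOf {G : Type u} [Group G] [Finite G] (φ : G ≃* G)
    (hφ : MonoidHom.FixedPointFree (φ : G →* G)) {r : ℕ} (hr : r.Prime) (hord : orderOf φ = r) :
    Group.IsNilpotent G := by
  refine isNilpotent_of_fixedPointFree hr φ hφ fun x => ?_
  have h : ∀ n, (⇑φ)^[n] x = (φ ^ n : MulAut G) x := by
    intro n
    induction n with
    | zero => rfl
    | succ n ih => rw [Function.iterate_succ_apply', ih, pow_succ', MulAut.mul_apply]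
  rw [h, ← hord]
  exact DFunLike.congr_fun (pow_orderOf_eq_one φ) x

end Cfsg.Agent.Lib.Frobenius.Nilpotent
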