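import Mathlib.NumberTheory.Multiplicity
import Mathlib.FieldTheory.Finite.Basic
import Cfsg.Agent.Lib.PGroups.MaxAbelian
import Cfsg.Agent.Lib.Frobenius.FixedPointFree

/-!
# `p`-groups for odd `p`

* `exists_normal_elemAb` : a noncyclic `p`-group, `p` odd, has a normal elementary abelian subgroup
  of order `p ^ 2`.
* `isCyclic_of_unique_prime` : a `p`-group, `p` odd, with one subgroup of order `p` is cyclic.
-/

set_option autoImplicit false
set_option linter.unusedSectionVars false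

namespace Cfsg.Agent.Lib.Frobenius.PGroupOdd

open scoped commutatorElement IsMulCommutative

/-- Roots of unity of order `p` modulo `p ^ n`. -/
theorem dvd_sub_one_mul {p : ℕ} (hp : p.Prime) (hp2 : p ≠ 2) {n : ℕ} {k : ℤ}
    (h : (p : ℤ) ^ n ∣ k ^ p - 1) :
    (p : ℤ) ^ n ∣ (k - 1) * p ∧ (1 ≤ n → (p : ℤ) ∣ k - 1) := by
  have := Fact.mk hp
  by_cases hn : n = 0
  · subst hn; simp
  have h1 : (p : ℤ) ∣ k - 1 := by
    have h2 : ((k ^ p - 1 : ℤ) : ZMod p) = 0 :=
      (ZMod.intCast_zmod_eq_zero_iff_dvd _ _).mpr ((dvd_pow_self _ hn).trans h)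
    rw [Int.cast_sub, Int.cast_pow, ZMod.pow_card] at h2
    exact (ZMod.intCast_zmod_eq_zero_iff_dvd _ _).mp (by push_cast at h2 ⊢; exact h2)
  refine ⟨?_, fun _ => h1⟩
  obtain ⟨b, hb⟩ := h1
  obtain ⟨t, ht⟩ := odd_sq_dvd_geom_sum₂_sub (R := ℤ) (a := 1) b (hp.odd_of_ne_two hp2)
  have hk : k = 1 + p * b := by linarith
  have hS : (∑ i ∈ Finset.range p, k ^ i) * (k - 1) = k ^ p - 1 := geom_sum_mul k p
  simp only [one_pow, mul_one, ← hk] at ht
  have hco : IsCoprime ((p : ℤ) ^ n) (1 + p * t) :=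
    IsCoprime.pow_left (IsCoprime.symm (by exact ⟨1, -t, by ring⟩))
  refine hco.dvd_of_dvd_mul_right (h.trans (dvd_of_eq ?_))
  rw [← hS, eq_add_of_sub_eq ht]
  ring

section

variable {G : Type*} [Group G] [Finite G] {p : ℕ} [hp : Fact p.Prime]

/-- An element of order `p` modulo a cyclic normal `p`-subgroup `A` acts almost trivially on it. -/
theorem commutator_facts (hp2 : p ≠ 2) {A : Subgroup G} [hA : A.Normal] {a : G}
    (hgen : A = Subgroup.zpowers a) {n : ℕ} (ha : orderOf a = p ^ n) {x : G} (hx : x ^ p ∈ A)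
    {c : G} (hc : c ∈ A) :
    ⁅x, c⁆ ^ p = 1 ∧ (c ^ p = 1 → Commute x c) := by
  have haA : a ∈ A := hgen ▸ Subgroup.mem_zpowers a
  obtain ⟨k, hk⟩ := Subgroup.mem_zpowers_iff.mp (hgen ▸ hA.conj_mem a haA x)
  have hstep : ∀ i : ℕ, x ^ i * a * (x ^ i)⁻¹ = a ^ (k ^ i) := by
    intro i
    induction i with
    | zero => simp
    | succ i ih =>
      calc x ^ (i + 1) * a * (x ^ (i + 1))⁻¹ = x * (x ^ i * a * (x ^ i)⁻¹) * x⁻¹ := by
            rw [pow_succ']; group
        _ = _ := by rw [ih, ← conj_zpow, ← hk, ← zpow_mul, pow_succ']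
  have hkp : (p : ℤ) ^ n ∣ k ^ p - 1 := by
    have h1 := hstep p
    obtain ⟨j, hj⟩ := Subgroup.mem_zpowers_iff.mp (hgen ▸ hx)
    rw [← hj, ((Commute.refl a).zpow_left j).eq, mul_inv_cancel_right] at h1
    have h2 : a ^ (k ^ p) = a ^ (1 : ℤ) := by rw [zpow_one]; exact h1.symm
    rw [zpow_eq_zpow_iff_modEq, ha, Int.modEq_iff_dvd] at h2
    have h3 := dvd_neg.mpr h2
    rw [neg_sub] at h3
    exact_mod_cast h3
  obtain ⟨hd, hd'⟩ := dvd_sub_one_mul hp.out hp2 hkp
  obtain ⟨m, rfl⟩ := Subgroup.mem_zpowers_iff.mp (hgen ▸ hc)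
  have hcomm : ⁅x, a ^ m⁆ = a ^ ((k - 1) * m) := by
    rw [commutatorElement_def, ← conj_zpow, ← hk, ← zpow_mul, ← zpow_neg, ← zpow_add]
    congr 1; ring
  have hiff : ∀ e : ℤ, a ^ e = 1 ↔ (p : ℤ) ^ n ∣ e := by
    intro e
    rw [← orderOf_dvd_iff_zpow_eq_one, ha]
    push_cast
    rfl
  constructor
  · rw [hcomm, ← zpow_natCast (a ^ ((k - 1) * m)), ← zpow_mul, hiff]
    exact hd.trans ⟨m, by ring⟩
  · intro hcp
    refine commutatorElement_eq_one_iff_commute.mp ?_
    rw [hcomm, hiff]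
    rw [← zpow_natCast (a ^ m), ← zpow_mul, hiff] at hcp
    rcases Nat.eq_zero_or_pos n with hn | hn
    · subst hn; simp
    obtain ⟨b, hb⟩ := hd' hn
    rw [hb, show (p : ℤ) * b * m = m * p * b by ring]
    exact hcp.trans ⟨b, rfl⟩

theorem exists_normal_elemAb (hG : IsPGroup p G) (hp2 : p ≠ 2) (hnc : ¬ IsCyclic G) :
    ∃ E : Subgroup G, E.Normal ∧ Cfsg.IsElementaryAbelian p E ∧ Nat.card E = p ^ 2 := by
  classical
  obtain ⟨A, -, hAn, hAc, hmax⟩ :=
    PGroups.exists_maximal_normal_abelian (⊥ : Subgroup G) ⟨⟨fun a b => Subsingleton.elim _ _⟩⟩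
  have hC := PGroups.centralizer_eq_self_of_maximal hG hAc
    (fun B h1 h2 h3 => hmax B h1 h2 h3)
  by_cases hcyc : IsCyclic A
  swap
  · -- the elements of order `p` in a noncyclic `A`
    obtain ⟨q, hq, hker⟩ : ∃ q, q.Prime ∧ q < Nat.card (powMonoidHom q : A →* A).ker := by
      by_contra hne
      push Not at hne
      exact hcyc (isCyclic_of_forall_prime fun q hq => hne q hq)
    have hqp : q = p := by
      have h1 : (powMonoidHom q : A →* A).ker ≠ ⊥ := fun h => by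
        rw [h, Subgroup.card_bot] at hker
        exact absurd hq.one_lt (by omega)
      obtain ⟨⟨z, hz⟩, hz1⟩ := Subgroup.ne_bot_iff_exists_ne_one.mp h1
      have hz1' : z ≠ 1 := fun h => hz1 (Subtype.ext h)
      have := Fact.mk hq
      obtain ⟨i, hi⟩ := IsPGroup.iff_orderOf.mp (hG.to_subgroup A) z
      rw [orderOf_eq_prime (by simpa using hz) hz1'] at hi
      exact (Nat.prime_dvd_prime_iff_eq hq hp.out).mp (hq.dvd_of_dvd_pow (dvd_of_eq hi))
    subst hqp
    let E₀ : Subgroup G := ((powMonoidHom q : A →* A).ker).map A.subtype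
    have hE₀ : ∀ y, y ∈ E₀ ↔ y ∈ A ∧ y ^ q = 1 := by
      intro y
      constructor
      · rintro ⟨z, hz, rfl⟩
        exact ⟨z.2, congrArg Subtype.val (MonoidHom.mem_ker.mp hz)⟩
      · rintro ⟨hy, hy'⟩
        exact ⟨⟨y, hy⟩, Subtype.ext hy', rfl⟩
    have : E₀.Normal := ⟨fun y hy g => by
      rw [hE₀] at hy ⊢
      exact ⟨hAn.conj_mem y hy.1 g, by rw [conj_pow, hy.2]; group⟩⟩
    obtain ⟨M, hMn, hME, hMc⟩ := PGroups.exists_normal_le_card (k := 2) hG E₀ (by
      obtain ⟨i, hi⟩ := IsPGroup.iff_card.mp (hG.to_subgroup E₀)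
      have h1 : q < Nat.card E₀ := by rw [Subgroup.card_subtype]; exact hker
      rw [hi] at h1 ⊢
      refine Nat.pow_le_pow_right hq.pos ?_
      by_contra hlt
      interval_cases i <;> simp at h1 <;> linarith [hq.one_lt])
    exact ⟨M, hMn, PGroups.elemAb_mk
      (fun x hx y hy => congrArg Subtype.val
        (mul_comm (⟨x, ((hE₀ x).mp (hME hx)).1⟩ : A) ⟨y, ((hE₀ y).mp (hME hy)).1⟩))
      (fun x hx => ((hE₀ x).mp (hME hx)).2), hMc⟩
  -- `A` cyclic
  obtain ⟨a, ha⟩ := Subgroup.isCyclic_iff_exists_zpowers_eq_top A |>.mp hcyc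
  subst ha
  obtain ⟨n, hn⟩ := IsPGroup.iff_orderOf.mp hG a
  have hAtop : Subgroup.zpowers a ≠ ⊤ := fun h => hnc ⟨a, fun x => (Subgroup.eq_top_iff' _).mp h x⟩
  have hn1 : 1 ≤ n := by
    by_contra h0
    have ha1 : a = 1 := orderOf_eq_one_iff.mp (by rw [hn, show n = 0 by omega, pow_zero])
    apply hAtop
    rw [eq_top_iff, ← hC]
    intro x _
    rw [Subgroup.mem_centralizer_iff]
    intro y hy
    rw [ha1, Subgroup.zpowers_one_eq_bot, SetLike.mem_coe, Subgroup.mem_bot] at hy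
    simp [hy]
  let f := QuotientGroup.mk' (Subgroup.zpowers a)
  obtain ⟨Z, -, hZc, hZn, hZ⟩ := PGroups.exists_central_card_prime (hG.to_quotient _)
    (⊤ : Subgroup (G ⧸ Subgroup.zpowers a)) (fun h => hAtop (by
      rw [eq_top_iff]
      intro x _
      exact (QuotientGroup.eq_one_iff x).mp (Subgroup.mem_bot.mp (h ▸ Subgroup.mem_top (f x)))))
  let B := Z.comap f
  have hBn : B.Normal := hZn.comap f
  have hAB : Subgroup.zpowers a ≤ B := fun x hx => by
    have : f x = 1 := (QuotientGroup.eq_one_iff x).mpr hx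
    rw [Subgroup.mem_comap, this]; exact Z.one_mem
  have hBp : ∀ x ∈ B, x ^ p ∈ Subgroup.zpowers a := by
    intro x hx
    rw [← QuotientGroup.eq_one_iff]
    have := congrArg Subtype.val (pow_card_eq_one' (x := (⟨f x, hx⟩ : Z)))
    rw [hZ] at this
    rw [QuotientGroup.mk_pow]
    exact this
  have hfact : ∀ x ∈ B, ∀ c ∈ Subgroup.zpowers a, ⁅x, c⁆ ^ p = 1 ∧ (c ^ p = 1 → Commute x c) :=
    fun x hx c hc => commutator_facts hp2 rfl hn (hBp x hx) hc
  -- every element of `B` is a power of a given one outside `A`, modulo `A`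
  have hdec : ∀ x ∈ B, x ∉ Subgroup.zpowers a → ∀ y ∈ B,
      ∃ c ∈ Subgroup.zpowers a, ∃ i : ℤ, y = c * x ^ i := by
    intro x hx hxA y hy
    have hZx : Subgroup.zpowers (f x) = Z := by
      refine Subgroup.eq_of_le_of_card_ge (Subgroup.zpowers_le.mpr hx) ?_
      rw [Nat.card_zpowers, hZ]
      refine le_of_eq (orderOf_eq_prime ?_ fun h => hxA ((QuotientGroup.eq_one_iff x).mp h)).symm
      exact (map_pow f x p).symm.trans ((QuotientGroup.eq_one_iff _).mpr (hBp x hx))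
    obtain ⟨i, hi⟩ := Subgroup.mem_zpowers_iff.mp (hZx.symm.le hy : f y ∈ Subgroup.zpowers (f x))
    refine ⟨y * (x ^ i)⁻¹, ?_, i, by group⟩
    rw [← QuotientGroup.eq_one_iff]
    change f (y * (x ^ i)⁻¹) = 1
    rw [map_mul, map_inv, map_zpow, hi, mul_inv_cancel]
  have hcom : ∀ x ∈ B, ∀ y ∈ B, ⁅y, x⁆ ∈ Subgroup.zpowers a ∧ ⁅y, x⁆ ^ p = 1 := by
    intro x hx y hy
    by_cases hxA : x ∈ Subgroup.zpowers a
    · exact ⟨Subgroup.commutator_le_right (⊤ : Subgroup G) _
        (Subgroup.commutator_mem_commutator (Subgroup.mem_top y) hxA), (hfact y hy x hxA).1⟩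
    obtain ⟨c, hc, i, rfl⟩ := hdec x hx hxA y hy
    have e : ⁅c * x ^ i, x⁆ = ⁅x, c⁆⁻¹ := by
      simp only [commutatorElement_def]; group
    rw [e]
    exact ⟨Subgroup.inv_mem _ (Subgroup.commutator_le_right (⊤ : Subgroup G) _
      (Subgroup.commutator_mem_commutator (Subgroup.mem_top x) hc)),
      by rw [inv_pow, (hfact x hx c hc).1, inv_one]⟩
  obtain ⟨q, hq⟩ : p ∣ p.choose 2 :=
    hp.out.dvd_choose_self (by norm_num) (lt_of_le_of_ne hp.out.two_le (Ne.symm hp2))
  have hpow : ∀ x ∈ B, ∀ y ∈ B, (x * y) ^ p = x ^ p * y ^ p := by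
    intro x hx y hy
    obtain ⟨hm, h1⟩ := hcom x hx y hy
    rw [PGroups.mul_pow_of_central_commutator x y ((hfact x hx _ hm).2 h1)
      ((hfact y hy _ hm).2 h1), hq, pow_mul, h1, one_pow, mul_one]
  let E : Subgroup G :=
    { carrier := {x | x ∈ B ∧ x ^ p = 1}
      mul_mem' := fun {x y} hx hy =>
        ⟨B.mul_mem hx.1 hy.1, by rw [hpow x hx.1 y hy.1, hx.2, hy.2, one_mul]⟩
      one_mem' := ⟨B.one_mem, one_pow p⟩
      inv_mem' := fun {x} hx => ⟨B.inv_mem hx.1, by rw [inv_pow, hx.2, inv_one]⟩ }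
  have hEn : E.Normal := ⟨fun x hx g => ⟨hBn.conj_mem x hx.1 g, by rw [conj_pow, hx.2]; group⟩⟩
  have hEel : Cfsg.IsElementaryAbelian p E := by
    refine PGroups.elemAb_mk (fun y hy x hx => ?_) (fun x hx => hx.2)
    by_cases hxA : x ∈ Subgroup.zpowers a
    · exact (hfact y hy.1 x hxA).2 hx.2
    obtain ⟨c, hc, i, rfl⟩ := hdec x hx.1 hxA y hy.1
    have hcp : c ^ p = 1 := by
      have := E.mul_mem hy (E.inv_mem (E.zpow_mem hx i))
      rw [mul_inv_cancel_right] at this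
      exact this.2
    exact ((hfact x hx.1 c hc).2 hcp).symm.mul_left ((Commute.refl x).zpow_left i)
  obtain ⟨b, hbB, hbA⟩ : ∃ b ∈ B, b ∉ Subgroup.zpowers a := by
    obtain ⟨⟨z, hz⟩, hz1⟩ : ∃ z : Z, z ≠ 1 := by
      have : Nontrivial Z := Finite.one_lt_card_iff_nontrivial.mp (hZ ▸ hp.out.one_lt)
      exact exists_ne 1
    obtain ⟨b, rfl⟩ := QuotientGroup.mk'_surjective (Subgroup.zpowers a) z
    exact ⟨b, hz, fun h => hz1 (Subtype.ext ((QuotientGroup.eq_one_iff b).mpr h))⟩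
  obtain ⟨m, hm⟩ := Subgroup.mem_zpowers_iff.mp (hBp b hbB)
  have hpm : (p : ℤ) ∣ m := by
    by_contra hnd
    obtain ⟨u, v, huv⟩ : IsCoprime m ((p : ℤ) ^ n) :=
      ((Nat.prime_iff_prime_int.mp hp.out).coprime_iff_not_dvd.mpr hnd).symm.pow_right
    apply hbA
    rw [← hC, Subgroup.mem_centralizer_iff]
    intro y hy
    obtain ⟨e, rfl⟩ := Subgroup.mem_zpowers_iff.mp hy
    have ha' : a = (b ^ p) ^ u := by
      have hap : a ^ ((p : ℤ) ^ n) = 1 := by
        rw [← Nat.cast_pow, zpow_natCast, ← hn, pow_orderOf_eq_one]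
      calc a = a ^ (u * m + v * (p : ℤ) ^ n) := by rw [huv, zpow_one]
        _ = _ := by rw [zpow_add, mul_comm v, zpow_mul a ((p : ℤ) ^ n), hap, one_zpow, mul_one,
            mul_comm u, zpow_mul, hm]
    rw [ha']
    exact ((((Commute.refl b).pow_left p).zpow_left u).zpow_left e).eq
  obtain ⟨m', rfl⟩ := hpm
  have hcA : (a ^ m')⁻¹ ∈ Subgroup.zpowers a := inv_mem (zpow_mem (Subgroup.mem_zpowers a) m')
  have hbE : (a ^ m')⁻¹ * b ∈ E := by
    refine ⟨B.mul_mem (hAB hcA) hbB, ?_⟩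
    rw [hpow _ (hAB hcA) _ hbB, inv_pow, ← zpow_natCast (a ^ m'), ← zpow_mul, mul_comm m', hm,
      inv_mul_cancel]
  have hbE' : (a ^ m')⁻¹ * b ∉ Subgroup.zpowers a := fun h =>
    hbA (by simpa using Subgroup.mul_mem _ (inv_mem hcA) h)
  refine ⟨E, hEn, hEel, ?_⟩
  have hinf : Nat.card (Subgroup.zpowers a ⊓ E : Subgroup G) = p := by
    refine le_antisymm ?_ ?_
    · have : IsCyclic (Subgroup.zpowers a ⊓ E : Subgroup G) :=
        isCyclic_of_injective _ (Subgroup.inclusion_injective (inf_le_left : Subgroup.zpowers a ⊓ E ≤ _))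
      exact Nat.le_of_dvd hp.out.pos
        (PGroups.elemAb_card_dvd_of_isCyclic (PGroups.elemAb_mono hEel inf_le_right))
    · have hz : a ^ p ^ (n - 1) ∈ Subgroup.zpowers a ⊓ E :=
        ⟨pow_mem (Subgroup.mem_zpowers a) _, hAB (pow_mem (Subgroup.mem_zpowers a) _),
          by rw [← pow_mul, ← pow_succ, show n - 1 + 1 = n by omega, ← hn, pow_orderOf_eq_one]⟩
      calc p = Nat.card (Subgroup.zpowers (a ^ p ^ (n - 1))) := by
            rw [Nat.card_zpowers, orderOf_pow_of_dvd (pow_ne_zero _ hp.out.ne_zero)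
              (hn ▸ pow_dvd_pow p (Nat.sub_le n 1)), hn, Nat.pow_div (Nat.sub_le n 1) hp.out.pos,
              show n - (n - 1) = 1 by omega, pow_one]
        _ ≤ _ := Subgroup.card_le_of_le (Subgroup.zpowers_le.mpr hz)
  have hle : Nat.card E ≤ p * p := by
    calc Nat.card E = (E ⊓ Subgroup.zpowers a : Subgroup G).relIndex E *
          Nat.card (E ⊓ Subgroup.zpowers a : Subgroup G) :=
          by
          rw [mul_comm]
          have h1 := Subgroup.relIndex_mul_relIndex (⊥ : Subgroup G)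
            (E ⊓ Subgroup.zpowers a) E bot_le inf_le_left
          rw [Subgroup.relIndex_bot_left, Subgroup.relIndex_bot_left] at h1
          exact h1.symm
      _ ≤ p * p := by
          refine Nat.mul_le_mul ?_ (by rw [inf_comm, hinf])
          rw [Subgroup.inf_relIndex_left]
          calc (Subgroup.zpowers a).relIndex E ≤ (Subgroup.zpowers a).relIndex B :=
                Subgroup.relIndex_le_of_le_right (fun x hx => hx.1) Subgroup.index_ne_zero_of_finite
            _ = p := by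
                have h1 := Subgroup.relIndex_comap (f := f) (⊥ : Subgroup (G ⧸ Subgroup.zpowers a)) B
                rw [MonoidHom.comap_bot, QuotientGroup.ker_mk'] at h1
                rw [h1, Subgroup.map_comap_eq_self_of_surjective (QuotientGroup.mk'_surjective _),
                  Subgroup.relIndex_bot_left, hZ]
  have hlt : p < Nat.card E := by
    rw [← hinf]
    exact lt_of_le_of_ne (Subgroup.card_le_of_le inf_le_right) fun h => hbE'
      ((Subgroup.eq_of_le_of_card_ge inf_le_right h.ge).ge hbE).1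
  obtain ⟨i, hi⟩ := PGroups.elemAb_card_eq_pow hEel
  rw [hi] at hle hlt ⊢
  rw [← pow_two] at hle
  have h2 := (Nat.pow_le_pow_iff_right hp.out.one_lt).mp hle
  have h3 : 1 < i := (Nat.pow_lt_pow_iff_right hp.out.one_lt).mp (by rwa [pow_one])
  rw [show i = 2 by omega]

theorem isCyclic_of_unique_prime (hG : IsPGroup p G) (hp2 : p ≠ 2)
    (h : ∀ x y : G, orderOf x = p → orderOf y = p → Subgroup.zpowers x = Subgroup.zpowers y) :
    IsCyclic G := by
  by_contra hnc
  obtain ⟨E, -, hE, hcard⟩ := exists_normal_elemAb hG hp2 hnc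
  obtain ⟨x, hx, hx1⟩ := E.bot_or_exists_ne_one.resolve_left (fun he => by
    rw [he, Subgroup.card_bot] at hcard
    exact (Nat.one_lt_pow (by norm_num) hp.out.one_lt).ne hcard)
  have hle : E ≤ Subgroup.zpowers x := fun y hy => by
    by_cases hy1 : y = 1
    · rw [hy1]; exact Subgroup.one_mem _
    rw [h x y (PGroups.elemAb_orderOf hE hx hx1) (PGroups.elemAb_orderOf hE hy hy1)]
    exact Subgroup.mem_zpowers y
  have := Subgroup.card_le_of_le hle
  rw [Nat.card_zpowers, PGroups.elemAb_orderOf hE hx hx1, hcard] at this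
  nlinarith [hp.out.one_lt]

end

end Cfsg.Agent.Lib.Frobenius.PGroupOdd
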