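import Mathlib.GroupTheory.SpecificGroups.ZGroup
import Cfsg.Agent.Lib.Frobenius.FixedPointFree

/-!
# The structure of Frobenius complements

Throughout `K ⋊ H` is a Frobenius group: `hH : IsFrobeniusComplement H`, `hc : IsComplement' K H`,
`K` normal.
* `exists_isFPF_complement` : `H` has a fixed-point-free action on a nontrivial abelian group.
* commuting elements of prime order generate the same subgroup, abelian subgroups and subgroups of
  order `p*q` are cyclic, a `p`-subgroup has one subgroup of order `p`, one involution at most.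
* `center_ne_bot_of_even`, `center_ne_bot_of_isZGroup`.
* `eq_of_le_of_normal_complement` : nested complements coincide.
-/

set_option autoImplicit false
set_option linter.unusedSectionVars false

namespace Cfsg.Agent.Lib.Frobenius

open scoped Pointwise IsMulCommutative

universe u

variable {G : Type u} [Group G] [Finite G] {K H : Subgroup G} [K.Normal]
  (hH : Cfsg.IsFrobeniusComplement H) (hc : Subgroup.IsComplement' K H)
include hH hc

/-- The complement acts fixed-point-freely on a nontrivial finite abelian group. -/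
theorem exists_isFPF_complement :
    ∃ (V : Type u) (_ : CommGroup V) (_ : Finite V) (_ : Nontrivial V) (ρ : H →* MulAut V),
      IsFPF ρ := by
  obtain ⟨V, -, hV, hVc, hN, hfix⟩ := exists_invariant_abelian hH hc
  exact ⟨V, inferInstance, inferInstance, (Subgroup.nontrivial_iff_ne_bot V).mpr hV, _,
    isFPF_conj hN hfix⟩

theorem mem_zpowers_of_commute_complement {p : ℕ} (hp : p.Prime) {x y : H} (hx : orderOf x = p)
    (hy : y ^ p = 1) (hxy : Commute x y) : y ∈ Subgroup.zpowers x := by
  obtain ⟨V, _, _, _, ρ, hρ⟩ := exists_isFPF_complement hH hc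
  exact hρ.mem_zpowers_of_commute hp hx hy hxy

theorem isCyclic_of_commutative_complement {A : Subgroup H} [IsMulCommutative A] : IsCyclic A := by
  obtain ⟨V, _, _, _, ρ, hρ⟩ := exists_isFPF_complement hH hc
  have h : IsFPF (ρ.comp A.subtype) := fun a ha v hv => hρ a (fun h => ha (Subtype.ext h)) v hv
  exact h.isCyclic_of_commutative

theorem isCyclic_of_card_eq_mul_complement {A : Subgroup H} {p q : ℕ} (hp : p.Prime)
    (hq : q.Prime) (hA : Nat.card A = p * q) : IsCyclic A := by
  obtain ⟨V, _, _, _, ρ, hρ⟩ := exists_isFPF_complement hH hc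
  have h : IsFPF (ρ.comp A.subtype) := fun a ha v hv => hρ a (fun h => ha (Subtype.ext h)) v hv
  exact h.isCyclic_of_card_eq_mul hp hq hA

/-- A `p`-subgroup of a complement has only one subgroup of order `p`. -/
theorem zpowers_eq_of_isPGroup {p : ℕ} [hp : Fact p.Prime] {P : Subgroup H} (hP : IsPGroup p P)
    {x y : P} (hx : orderOf x = p) (hy : orderOf y = p) :
    Subgroup.zpowers x = Subgroup.zpowers y := by
  have : Nontrivial P := ⟨x, 1, fun h => hp.out.ne_one (by rw [← hx, h, orderOf_one])⟩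
  have := hP.center_nontrivial
  have hZp : IsPGroup p (Subgroup.center P) := hP.to_subgroup _
  obtain ⟨z, hz⟩ := exists_prime_orderOf_dvd_card' p (G := Subgroup.center P) (by
    obtain ⟨k, hk⟩ := hZp.exists_card_eq
    have h1 := Finite.one_lt_card (α := Subgroup.center P)
    rw [hk] at h1 ⊢
    exact dvd_pow_self p (fun h => by simp [h] at h1))
  have key : ∀ x : P, orderOf x = p → Subgroup.zpowers x = Subgroup.zpowers (z : P) := by
    intro x hx
    have hc' : Commute ((z : P) : H) (x : H) :=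
      (congrArg (fun t : P => (t : H)) (Subgroup.mem_center_iff.mp z.2 x)).symm
    have hm := mem_zpowers_of_commute_complement hH hc hp.out (x := ((z : P) : H)) (y := (x : H))
      (by rw [Subgroup.orderOf_coe, Subgroup.orderOf_coe, hz])
      (by rw [← hx, ← Subgroup.orderOf_coe x]; exact pow_orderOf_eq_one _) hc'
    obtain ⟨n, hn⟩ := Subgroup.mem_zpowers_iff.mp hm
    refine Subgroup.eq_of_le_of_card_ge
      (Subgroup.zpowers_le.mpr (Subgroup.mem_zpowers_iff.mpr ⟨n, Subtype.ext hn⟩)) ?_
    rw [Nat.card_zpowers, Nat.card_zpowers, hx, Subgroup.orderOf_coe, hz]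
  rw [key x hx, key y hy]

/-- A Frobenius complement has at most one involution. -/
theorem eq_of_orderOf_eq_two {s t : G} (hs : s ∈ H) (ht : t ∈ H) (hs2 : orderOf s = 2)
    (ht2 : orderOf t = 2) : s = t := by
  have hs1 : s ≠ 1 := fun h => by simp [h] at hs2
  have ht1 : t ≠ 1 := fun h => by simp [h] at ht2
  have hss : s * s = 1 := by have := pow_orderOf_eq_one s; rwa [hs2, pow_two] at this
  have htt : t * t = 1 := by have := pow_orderOf_eq_one t; rwa [ht2, pow_two] at this
  obtain ⟨N, hN, hNn, hNc, hNs, -⟩ := exists_kernel_of_involution hH hs hs1 hss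
  obtain ⟨M, hM, -, -, hMt, -⟩ := exists_kernel_of_involution hH ht ht1 htt
  have hMN : M = N := SetLike.coe_injective (hM.trans hN.symm)
  subst hMN
  by_contra hne
  have hN1 : M ≠ ⊥ := by
    intro h
    have := hNc.card_mul_card
    rw [h, Subgroup.card_bot, one_mul] at this
    exact hH.2.1 (Subgroup.card_eq_iff_eq_top H |>.mp this)
  obtain ⟨⟨k, hk⟩, hk1⟩ := Subgroup.ne_bot_iff_exists_ne_one.mp hN1
  have hcomm : (s⁻¹ * t) * k = k * (s⁻¹ * t) := by
    have h1 := hNs k hk
    have h2 := hMt k hk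
    rw [← h1, mul_inv_eq_iff_eq_mul] at h2
    rw [mul_assoc, h2]
    group
  exact Subgroup.disjoint_def.mp hNc.disjoint hk
    (mem_of_commute hH (H.mul_mem (H.inv_mem hs) ht) (fun h => hne (inv_mul_eq_one.mp h)) hcomm)
    |> fun h => hk1 (Subtype.ext h)

theorem center_ne_bot_of_even (h2 : 2 ∣ Nat.card H) : Subgroup.center H ≠ ⊥ := by
  obtain ⟨s, hs⟩ := exists_prime_orderOf_dvd_card' 2 h2
  intro h
  have hmem : s ∈ Subgroup.center H := by
    rw [Subgroup.mem_center_iff]
    intro g
    have hg : orderOf (g * s * g⁻¹) = 2 := by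
      rw [show g * s * g⁻¹ = MulAut.conj g s from rfl, MulEquiv.orderOf_eq, hs]
    have := eq_of_orderOf_eq_two hH hc (g * s * g⁻¹ : H).2 s.2
      (by rw [Subgroup.orderOf_coe, hg]) (by rw [Subgroup.orderOf_coe, hs])
    exact mul_inv_eq_iff_eq_mul.mp (Subtype.ext this)
  rw [h, Subgroup.mem_bot] at hmem
  simp [hmem] at hs

/-- An element of prime order normalising a subgroup of different prime order centralises it. -/
theorem commute_of_prime_normalizes {p q : ℕ} (hp : p.Prime) (hq : q.Prime) (hpq : p ≠ q)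
    {z y : H} (hz : orderOf z = p) (hy : orderOf y = q)
    (hzy : z ∈ Subgroup.normalizer (Subgroup.zpowers y : Set H)) : Commute z y := by
  let M := Subgroup.zpowers y
  let Z := Subgroup.zpowers z
  have hZ : Z ≤ Subgroup.normalizer (M : Set H) := Subgroup.zpowers_le.mpr hzy
  let L := M ⊔ Z
  have hdisj : Disjoint M Z := by
    refine Subgroup.disjoint_of_coprime_natCard ?_
    rw [Nat.card_zpowers, Nat.card_zpowers, hy, hz]
    exact (Nat.coprime_primes hq hp).mpr hpq.symm
  have hcompl : Subgroup.IsComplement' (M.subgroupOf L) (Z.subgroupOf L) := by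
    refine Subgroup.isComplement'_of_disjoint_and_mul_eq_univ ?_ ?_
    · rw [Subgroup.disjoint_def]
      intro x hx hx'
      exact Subtype.ext (Subgroup.disjoint_def.mp hdisj hx hx')
    · rw [Set.eq_univ_iff_forall]
      intro x
      have hx : (x : H) ∈ (M : Set H) * (Z : Set H) := by
        rw [← Subgroup.coe_mul_of_right_le_normalizer_left M Z hZ]
        exact x.2
      obtain ⟨a, ha, b, hb, hab⟩ := hx
      exact ⟨⟨a, le_sup_left (a := M) ha⟩, ha, ⟨b, le_sup_right (a := M) hb⟩, hb, Subtype.ext hab⟩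
  have hcard : Nat.card L = q * p := by
    rw [← hcompl.card_mul_card, Nat.card_congr (Subgroup.subgroupOfEquivOfLe le_sup_left).toEquiv,
      Nat.card_congr (Subgroup.subgroupOfEquivOfLe le_sup_right).toEquiv, Nat.card_zpowers,
      Nat.card_zpowers, hy, hz]
  have := isCyclic_of_card_eq_mul_complement hH hc hq hp hcard
  exact congrArg Subtype.val
    ((IsCyclic.commGroup (α := L)).mul_comm
      ⟨z, le_sup_right (a := M) (Subgroup.mem_zpowers z)⟩
      ⟨y, le_sup_left (b := Z) (Subgroup.mem_zpowers y)⟩)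

theorem center_ne_bot_of_isZGroup [IsZGroup H] : Subgroup.center H ≠ ⊥ := by
  have hH' : Nontrivial H := (Subgroup.nontrivial_iff_ne_bot H).mpr hH.1
  have hcop := IsZGroup.coprime_commutator_index H
  obtain ⟨B, hB⟩ := Subgroup.exists_right_complement'_of_coprime hcop
  have := IsZGroup.isCyclic_commutator H
  have hB1 : B ≠ ⊥ := by
    intro h
    rw [h, Subgroup.isComplement'_bot_right] at hB
    exact (IsZGroup.commutator_lt (G := H)).ne hB
  obtain ⟨p, hp, hpd⟩ := Nat.exists_prime_and_dvd (n := Nat.card B)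
    (fun h => hB1 (Subgroup.card_eq_one.mp h))
  have := Fact.mk hp
  obtain ⟨⟨z, hzB⟩, hz⟩ := exists_prime_orderOf_dvd_card' p hpd
  rw [Subgroup.orderOf_mk] at hz
  -- `B` is commutative, being a copy of the cyclic abelianization
  have hBc : ∀ a ∈ B, ∀ b ∈ B, a * b = b * a := by
    intro a ha b hb
    have hm : a * b * a⁻¹ * b⁻¹ ∈ commutator H ⊓ B :=
      ⟨Subgroup.commutator_mem_commutator (Subgroup.mem_top a) (Subgroup.mem_top b),
        B.mul_mem (B.mul_mem (B.mul_mem ha hb) (B.inv_mem ha)) (B.inv_mem hb)⟩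
    rw [hB.disjoint.eq_bot, Subgroup.mem_bot] at hm
    exact mul_inv_eq_iff_eq_mul.mp (mul_inv_eq_one.mp hm)
  let A := commutator H
  have hAc : ∀ a ∈ A, ∀ b ∈ A, a * b = b * a := fun a ha b hb =>
    congrArg Subtype.val ((IsCyclic.commGroup (α := A)).mul_comm ⟨a, ha⟩ ⟨b, hb⟩)
  have hpA : ¬ p ∣ Nat.card A := fun h => hp.ne_one
    (Nat.eq_one_of_dvd_coprimes hcop h (hB.symm.index_eq_card ▸ hpd))
  -- the homomorphism `a ↦ [z, a]` of `A` is trivial
  let f : A →* A :=
    { toFun := fun a => ⟨z * a * z⁻¹ * (a : H)⁻¹,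
        A.mul_mem (Subgroup.Normal.conj_mem inferInstance _ a.2 z) (A.inv_mem a.2)⟩
      map_one' := by simp
      map_mul' := fun a b => Subtype.ext <| by
        change z * ((a : H) * b) * z⁻¹ * ((a : H) * b)⁻¹ =
          z * a * z⁻¹ * (a : H)⁻¹ * (z * b * z⁻¹ * (b : H)⁻¹)
        have h1 := hAc _ (A.inv_mem a.2) _
          (A.mul_mem (Subgroup.Normal.conj_mem inferInstance _ b.2 z) (A.inv_mem b.2))
        rw [mul_assoc (z * (a : H) * z⁻¹), h1]
        group }
  have hf : ∀ a, f a = 1 := by
    by_contra hne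
    push Not at hne
    obtain ⟨a, ha⟩ := hne
    obtain ⟨q, hq, hqd⟩ := Nat.exists_prime_and_dvd (mt orderOf_eq_one_iff.mp ha)
    have := Fact.mk hq
    let y : A := f a ^ (orderOf (f a) / q)
    have hy : orderOf y = q := orderOf_pow_orderOf_div (orderOf_pos _).ne' hqd
    have hy' : orderOf (y : H) = q := by rw [Subgroup.orderOf_coe, hy]
    have hpq : p ≠ q := fun h => hpA (h ▸ hy ▸ orderOf_dvd_natCard y)
    have hzn : z ∈ Subgroup.normalizer (Subgroup.zpowers (y : H) : Set H) := by
      have hzy' : ∀ w : H, ∀ x ∈ Subgroup.zpowers (y : H), w * x * w⁻¹ ∈ Subgroup.zpowers (y : H) := by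
        intro w x hx
        obtain ⟨n, rfl⟩ := Subgroup.mem_zpowers_iff.mp hx
        rw [← conj_zpow]
        refine zpow_mem ?_ n
        have hw : w * (y : H) * w⁻¹ ∈ A := Subgroup.Normal.conj_mem inferInstance _ y.2 w
        exact mem_zpowers_of_commute_complement hH hc hq hy'
          (by rw [conj_pow, ← hy', pow_orderOf_eq_one]; simp) (hAc _ y.2 _ hw)
      rw [Subgroup.mem_normalizer_iff]
      refine fun x => ⟨fun hx => hzy' z x hx, fun hx => ?_⟩
      simpa [mul_assoc] using hzy' z⁻¹ _ hx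
    have hzy : z * (y : H) * z⁻¹ = y :=
      mul_inv_eq_iff_eq_mul.mpr (commute_of_prime_normalizes hH hc hp hq hpq hz hy' hzn)
    -- `y = f b` is fixed by `z`
    let b : A := a ^ (orderOf (f a) / q)
    have hb : f b = y := map_pow f a _
    have hstep : ∀ n : ℕ, z ^ n * (b : H) * (z ^ n)⁻¹ = (y : H) ^ n * b := by
      intro n
      induction n with
      | zero => simp
      | succ n ih =>
        have hyb : z * (b : H) * z⁻¹ = y * b := by
          have h0 : z * (b : H) * z⁻¹ * (b : H)⁻¹ = y := congrArg Subtype.val hb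
          exact mul_inv_eq_iff_eq_mul.mp h0
        have hzn' : z * (y : H) ^ n * z⁻¹ = (y : H) ^ n := by rw [← conj_pow, hzy]
        calc z ^ (n + 1) * (b : H) * (z ^ (n + 1))⁻¹
            = z * (z ^ n * b * (z ^ n)⁻¹) * z⁻¹ := by rw [pow_succ']; group
          _ = z * (y : H) ^ n * z⁻¹ * (z * b * z⁻¹) := by rw [ih]; group
          _ = (y : H) ^ (n + 1) * b := by rw [hzn', hyb, pow_succ, mul_assoc]
    have hp' := hstep p
    rw [show z ^ p = 1 from hz ▸ pow_orderOf_eq_one z, one_mul, inv_one, mul_one] at hp'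
    have h1 : orderOf (y : H) ∣ p := orderOf_dvd_of_pow_eq_one (mul_eq_right.mp hp'.symm)
    rw [hy'] at h1
    exact hpq ((Nat.prime_dvd_prime_iff_eq hq hp).mp h1).symm
  intro h
  have hmem : z ∈ Subgroup.center H := by
    rw [Subgroup.mem_center_iff]
    intro g
    obtain ⟨⟨⟨a, ha⟩, ⟨b, hb⟩⟩, rfl⟩ := hB.2 g
    have h1 : z * a * z⁻¹ * a⁻¹ = 1 := congrArg Subtype.val (hf ⟨a, ha⟩)
    have h1' : z * a = a * z := mul_inv_eq_iff_eq_mul.mp (mul_inv_eq_one.mp h1)
    change a * b * z = z * (a * b)
    rw [mul_assoc, hBc b hb z hzB, ← mul_assoc, ← h1', mul_assoc]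
  rw [h, Subgroup.mem_bot] at hmem
  rw [hmem, orderOf_one] at hz
  exact hp.ne_one hz.symm

/-- A complement containing another complement, with a normal complement in it, equals it. -/
theorem eq_of_le_of_normal_complement {H₀ : Subgroup G} (hH₀ : Cfsg.IsFrobeniusComplement H₀)
    (hle : H₀ ≤ H)
    (hker : Cfsg.IsFrobeniusComplement (H₀.subgroupOf H) →
      ∃ M : Subgroup H, M.Normal ∧ Subgroup.IsComplement' M (H₀.subgroupOf H)) : H₀ = H := by
  by_contra hne
  have h1 : H₀ ⊓ H ≠ ⊥ := by rw [inf_eq_left.mpr hle]; exact hH₀.1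
  have hF := subgroupOf_isFrobeniusComplement hH₀ h1 (fun h => hne (le_antisymm hle h))
  obtain ⟨M, hM, hMc⟩ := hker hF
  obtain ⟨V, _, _, _, ρ, hρ⟩ := exists_isFPF_complement hH hc
  exact hρ.not_isFrobeniusComplement hM hMc hF

end Cfsg.Agent.Lib.Frobenius
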